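import Cfsg.Agent.H604.Cop.Conway
import Cfsg.Agent.BpSpor.MBigCo

/-!
# Elements of order 23 of `Co1` (helper451)

* `fr_le` : an element of order 23 has at most 4 fixed points on `Λ / 2 Λ`;
* `card_cent` : its centralizer has order at most 23.
-/

set_option autoImplicit false
open scoped Pointwise

namespace Cfsg.Agent.H451.Weak.MCo

open Cfsg Cfsg.Spor Cfsg.Agent.LeechMat.Core
open Cfsg.Agent.SporadicA.GolayBase Cfsg.Agent.SporadicStructure.TabPerm
open Cfsg.Agent.CpAutBig.FixCount Cfsg.Agent.CpAutBig.Tab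
open Cfsg.Agent.MonsterX.FrameStab (IsPerm)
open Cfsg.Agent.MonsterU.Lam2
open Cfsg.Agent.CoOneType.ClosingFacts
open Cfsg.Agent.CpAutBig
open Cfsg.Agent.LThreeMB (fr)
open Cfsg.Agent.H604.Cop.Conway
open Subgroup (centralizer zpowers mem_centralizer_singleton_iff)

theorem fr_s23 : fr s23 ≤ 2 ^ 2 := by
  obtain ⟨h1, h2⟩ := FixCount.card_QF_le pi23 (Tab.vals chk23 REP23 2) (Tab.vals_injective chk23 REP23_iter)
  have hfin : Finite (FixCount.QF pi23) := Nat.finite_of_card_ne_zero h2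
  refine le_trans ?_ h1
  have key : ∀ x : {v : L2 // s23 • v = v}, ∃ v : FixCount.LF pi23, ∃ h : (v : GolayPt → ℤ) ∈ leechLattice,
      cl ⟨v, h⟩ = x.1 := by
    rintro ⟨x, hx⟩
    obtain ⟨v, hv, hvx⟩ := BpSpor.MBigCo.exists_rep (n := 23) (by decide) r23_pow hx
    refine ⟨⟨v, v.2, fun p => ?_⟩, v.2, hvx⟩
    have h3 := isPerm_r23 v (pi23 p)
    rw [hv, Equiv.symm_apply_apply] at h3
    exact h3
  choose v hv hvx using key
  refine Nat.card_le_card_of_injective (fun x => (QuotientAddGroup.mk (v x) : FixCount.QF pi23)) ?_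
  intro x y hxy
  obtain ⟨z, hz, hz2⟩ := FixCount.mk_eq hxy
  apply Subtype.ext
  rw [← hvx x, ← hvx y, cl_eq]
  exact ⟨⟨z, hz⟩, Subtype.ext hz2⟩

theorem conj_23 {s : Co1} (hs : orderOf s = 23) : ∃ g : Co1, g * s * g⁻¹ ∈ zpowers s23 := by
  have hfin := BpSpor.MBigCo.finite_co1
  obtain ⟨g, -, hg⟩ := CpAutBig.Small.conj_of_sylow (p := 23) (by norm_num) (⊤ : Subgroup Co1) (by
    rw [Subgroup.card_top, BpSpor.MBigCo.card_co1]; norm_num) hs orderOf_s23 (Subgroup.mem_top _) (Subgroup.mem_top _)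
  exact ⟨g, hg⟩

/-- **At most 4 fixed points.** -/
theorem fr_le {s : Co1} (hs : orderOf s = 23) : fr s ≤ 2 ^ 2 := by
  obtain ⟨g, hg⟩ := conj_23 hs
  have hgx : orderOf (g * s * g⁻¹) = 23 := by
    rw [← MulAut.conj_apply, MulEquiv.orderOf_eq, hs]
  have hz := BpSpor.MBigCo.mem_swap (by norm_num) hgx orderOf_s23 hg
  have h1 : fr (g * s * g⁻¹) = fr s23 := by
    refine Nat.card_congr (Equiv.subtypeEquivRight fun v =>
      ⟨fun h => BpSpor.MBigCo.fix_of_mem hz h, fun h => BpSpor.MBigCo.fix_of_mem hg h⟩)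
  rw [← LThreeMB.fr_conj g s, h1]
  exact fr_s23

theorem card_cent {s : Co1} (hs : orderOf s = 23) : Nat.card ↥(centralizer ({s} : Set Co1)) ≤ 23 := by
  have hfin := BpSpor.MBigCo.finite_co1
  obtain ⟨g, hg⟩ := conj_23 hs
  rw [CpAutBig.CoZero.card_centralizer_of_conj (by norm_num) hs orderOf_s23 hg]
  exact card_cent_s23

end Cfsg.Agent.H451.Weak.MCo
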