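import Cfsg.Agent.H451.Weak.MIndex
import Cfsg.Agent.H451.Weak.MCo
import Cfsg.Agent.H199.AbMon
import Cfsg.Agent.H384.CentM

/-!
# S4095 at the prime 2: the Monster, the primes at least 17 (helper451)

* `core_free` : `q ∈ {29, 41, 59, 71}`;
* `core_three_primes` : `q ∈ {17, 19, 31}`;
* `card_23`, `card_47` : `O_2(C(w)) = 1` or `|C(w)| < 3 ^ 20`.
-/

set_option autoImplicit false
set_option maxRecDepth 100000
set_option linter.unusedSectionVars false

namespace Cfsg.Agent.H451.Weak.M

open Cfsg Cfsg.Agent.MonsterX Cfsg.Agent.MonsterX.InstData Cfsg.Agent.MonsterX.MainPack Cfsg.Agent.MonsterU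
open Cfsg.Agent.MonsterP Cfsg.Agent.MonsterN Cfsg.Agent.LThreeMB
open Cfsg.Agent.MonsterX.MainBasic Cfsg.Agent.MonsterX.MainSimple Cfsg.Agent.MonsterX.Model
open Cfsg.Agent.MonsterU.Lam2 Cfsg.Agent.MonsterU.TwoCls
open Cfsg.Agent.BpTab Cfsg.Agent.BpSpor.MBigModel Cfsg.Agent.BpSpor.MBig
open Cfsg.Spor (Co1)
open Subgroup (centralizer zpowers mem_centralizer_singleton_iff normalizer mem_normalizer_iff)

/-- `q` divides the order of the centralizer of an element commuting with `w` -/
theorem dvd_of_comm {w v : MG} {q : ℕ} (hw : orderOf w = q) (hv : v * w = w * v) :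
    q ∣ Nat.card ↥(centralizer ({v} : Set MG)) := by
  have h1 : w ∈ centralizer ({v} : Set MG) := mem_centralizer_singleton_iff.2 hv.symm
  rw [← hw, ← Subgroup.orderOf_mk w h1]
  exact orderOf_dvd_natCard _

theorem not_z {w v : MG} {q : ℕ} (hw : orderOf w = q) (hq : ¬ q ∣ 2 ^ 25 * 4157776806543360000) (hv : v * w = w * v) :
    ¬ ∃ g : MG, g * zz * g⁻¹ = v := by
  rintro ⟨g, hg⟩
  have h1 := dvd_of_comm hw hv
  rw [BpSpor.card_cent_of_conj hg, card_cent_z] at h1
  exact hq h1

/-- **The primes not dividing the orders of the centralizers of the involutions.** -/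
theorem core_free {w : MG} {q : ℕ} (hw : orderOf w = q) (hq : ¬ q ∣ 2 ^ 25 * 4157776806543360000)
    (hq' : ¬ q ∣ 2 * 4154781481226426191177580544000000) : pCore 2 ↥(centralizer ({w} : Set MG)) = ⊥ := by
  have hfin := finite
  have h2 : Fact (Nat.Prime 2) := ⟨Nat.prime_two⟩
  refine core_of_odd ?_
  rw [← Nat.not_even_iff_odd, even_iff_two_dvd]
  intro h
  obtain ⟨v, hv⟩ := exists_prime_orderOf_dvd_card' 2 h
  have hvo : orderOf (v : MG) = 2 := by rw [Subgroup.orderOf_coe, hv]
  have hvw : (v : MG) * w = w * v := mem_centralizer_singleton_iff.1 v.2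
  rcases cls hvo with h1 | h1
  · exact not_z hw hq hvw h1
  · have h3 := dvd_of_comm hw hvw
    rw [card_cent_t h1] at h3
    exact hq' h3

/-- **The primes 17, 19, 31.** -/
theorem core_three_primes {w : MG} {q : ℕ} (hq : q = 17 ∨ q = 19 ∨ q = 31) (hw : orderOf w = q) :
    pCore 2 ↥(centralizer ({w} : Set MG)) = ⊥ := by
  by_contra hne
  have hqp : q.Prime := by rcases hq with rfl | rfl | rfl <;> norm_num
  have hd : ¬ q ^ 2 ∣ Nat.card MG := by
    rw [card_M]
    rcases hq with rfl | rfl | rfl <;> norm_num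
  have hz : ¬ q ∣ 2 ^ 25 * 4157776806543360000 := by rcases hq with rfl | rfl | rfl <;> norm_num
  rcases cases_V hqp hd hw hne with ⟨h, -⟩ | h | ⟨V, -, hVC, -, v, hv, hg⟩
  · rcases hq with rfl | rfl | rfl <;> revert h <;> norm_num [Nat.ModEq]
  · rcases hq with rfl | rfl | rfl <;> revert h <;> norm_num [Nat.ModEq]
  · exact not_z hw hz (mem_centralizer_singleton_iff.1 (hVC hv)) hg

theorem dvd_rm {n m p e : ℕ} (hp : p.Prime) (h : n ∣ p ^ e * m) (hn : ¬ p ∣ n) : n ∣ m :=
  (Nat.Coprime.pow_right e ((Nat.Prime.coprime_iff_not_dvd hp).2 hn).symm).dvd_of_dvd_mul_left h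

/-- no element of order `p` commutes with `w` -/
theorem not_dvd_of {w : MG} {q p : ℕ} (hw : orderOf w = q) (hp : p.Prime)
    (h : ∀ x : MG, orderOf x = p → ¬ q ∣ Nat.card ↥(centralizer ({x} : Set MG))) :
    ¬ p ∣ Nat.card ↥(centralizer ({w} : Set MG)) := by
  have hfin := finite
  have hpf : Fact p.Prime := ⟨hp⟩
  intro hd
  obtain ⟨v, hv⟩ := exists_prime_orderOf_dvd_card' p hd
  have hvo : orderOf (v : MG) = p := by rw [Subgroup.orderOf_coe, hv]
  exact h v hvo (dvd_of_comm hw (mem_centralizer_singleton_iff.1 v.2))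

/-- **Order 47.** -/
theorem card_47 {w : MG} (hw : orderOf w = 47) :
    pCore 2 ↥(centralizer ({w} : Set MG)) = ⊥ ∨ Nat.card ↥(centralizer ({w} : Set MG)) < 3 ^ 20 := by
  have hfin := finite
  by_cases hne : pCore 2 ↥(centralizer ({w} : Set MG)) = ⊥
  · exact Or.inl hne
  right
  rcases cases_V (by norm_num) (by rw [card_M]; norm_num) hw hne with ⟨-, v, hv, hle⟩ | h | ⟨V, -, hVC, -, v, hv, hg⟩
  · have h1 := Subgroup.card_dvd_of_le hle
    rw [card_cent_t hv] at h1
    have h3 := not_dvd_of hw Nat.prime_three fun x hx => H199.NSmMon.three_not_dvd (Or.inl rfl) hx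
    have h5 := not_dvd_of hw Nat.prime_five fun x hx => H199.AbMon.five_not_dvd' (by simp) hx
    have h7 := not_dvd_of (p := 7) hw (by norm_num) fun x hx => H199.AbMon.seven_not_dvd (by simp) hx
    have h4 : ¬ 4 ∣ Nat.card ↥(centralizer ({w} : Set MG)) := by
      obtain ⟨e⟩ := MonsterP.Equiv.equiv
      have h8 : Nat.card ↥(centralizer ({w} : Set MG)) =
          Nat.card ↥(centralizer ({e.symm w} : Set Spor.Monster)) := Nat.card_congr (centEquiv' e.symm w).toEquiv
      rw [h8]
      exact H384.CentM.not_four (by rw [MulEquiv.orderOf_eq, hw])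
    have k1 : Nat.card ↥(centralizer ({w} : Set MG)) ∣ 3 ^ 13 * (5 ^ 6 * (7 ^ 2 * (2 ^ 42 * (11 * 13 * 17 * 19 * 23 * 31 * 47)))) := by
      refine h1.trans (dvd_of_eq ?_)
      norm_num
    have k2 := dvd_rm (by norm_num) (dvd_rm (by norm_num) (dvd_rm (by norm_num) k1 h3) h5) h7
    have k3 : Nat.card ↥(centralizer ({w} : Set MG)) ∣ 2 * (11 * 13 * 17 * 19 * 23 * 31 * 47) := by
      obtain ⟨i, m, hm, hi⟩ := Nat.exists_eq_pow_mul_and_not_dvd (n := Nat.card ↥(centralizer ({w} : Set MG)))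
        Nat.card_pos.ne' 2 (by norm_num)
      have hi1 : i ≤ 1 := by
        by_contra hcon
        apply h4
        rw [hi]
        exact Dvd.dvd.mul_right (pow_dvd_pow 2 (show 2 ≤ i by omega)) m
      have hmd : m ∣ 11 * 13 * 17 * 19 * 23 * 31 * 47 :=
        dvd_rm Nat.prime_two ((Dvd.intro_left _ hi.symm).trans k2) hm
      rw [hi]
      exact mul_dvd_mul ((pow_dvd_pow 2 hi1).trans (by norm_num)) hmd
    exact (Nat.le_of_dvd (by norm_num) k3).trans_lt (by norm_num)
  · exfalso
    revert h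
    norm_num [Nat.ModEq]
  · exact absurd hg (not_z hw (by norm_num) (mem_centralizer_singleton_iff.1 (hVC hv)))

/-- **Order 23.** -/
theorem card_23 {w : MG} (hw : orderOf w = 23) :
    pCore 2 ↥(centralizer ({w} : Set MG)) = ⊥ ∨ Nat.card ↥(centralizer ({w} : Set MG)) < 3 ^ 20 := by
  have hfin := finite
  by_cases hne : pCore 2 ↥(centralizer ({w} : Set MG)) = ⊥
  · exact Or.inl hne
  right
  rcases cases_V (by norm_num) (by rw [card_M]; norm_num) hw hne with ⟨h, -⟩ | h | ⟨V, hV, hVC, hN, v, hv, g, hg⟩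
  · exfalso
    revert h
    norm_num [Nat.ModEq]
  · exfalso
    revert h
    norm_num [Nat.ModEq]
  · have hVn : (V.subgroupOf (centralizer ({w} : Set MG))).Normal := by
      refine ⟨fun a ha c => ?_⟩
      rw [Subgroup.mem_subgroupOf] at ha ⊢
      have h1 : (c : MG) ∈ normalizer (zpowers w : Set MG) := by
        have hc := mem_centralizer_singleton_iff.1 c.2
        rw [mem_normalizer_iff]
        have h7 : ∀ i : ℤ, (c : MG) * w ^ i * (c : MG)⁻¹ = w ^ i := by
          intro i
          have h8 : Commute (c : MG) (w ^ i) := (show Commute (c : MG) w from hc).zpow_right i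
          rw [h8.eq, mul_inv_cancel_right]
        intro x
        constructor
        · rintro ⟨i, rfl⟩
          exact ⟨i, (h7 i).symm⟩
        · rintro ⟨i, hi⟩
          refine ⟨i, ?_⟩
          have h8 : (c : MG) * (w ^ i) * (c : MG)⁻¹ = (c : MG) * x * (c : MG)⁻¹ := (h7 i).trans hi
          exact mul_left_cancel (mul_right_cancel h8)
      exact (mem_normalizer_iff.1 (hN h1) a).1 ha
    have hvm : (⟨v, hVC hv⟩ : ↥(centralizer ({w} : Set MG))) ∈ V.subgroupOf (centralizer ({w} : Set MG)) := hv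
    have h1 := card_le_mul hVn hvm
    obtain ⟨x', hx', -, hc, hd⟩ := exists_z (p := 23) (by norm_num) (by norm_num) hw
      (V := V.subgroupOf (centralizer ({w} : Set MG))) (fun a ha => Subtype.ext (hV a ha)) hvm hg
    have hpx : orderOf (pi x') = 23 := MFive.orderOf_pi chart (by norm_num) (by decide) hx'
    have h3 := card_inf_le (p := 23) (by norm_num) (by decide) hx'
    have h4 : fr (pi x') * 2 * Nat.card ↥(centralizer ({pi x'} : Set Co1)) ≤ 2 ^ 2 * 2 * 23 :=
      Nat.mul_le_mul (Nat.mul_le_mul_right 2 (MCo.fr_le hpx)) (MCo.card_cent hpx)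
    have h5 := h3.trans h4
    have h6 := (Nat.le_of_dvd Nat.card_pos hd).trans h5
    rw [hc] at h1
    have h7 : Nat.card ↥(V.subgroupOf (centralizer ({w} : Set MG))) ≤ 8 := by omega
    have h8 := h1.trans (Nat.mul_le_mul h7 h5)
    exact h8.trans_lt (by norm_num)

end Cfsg.Agent.H451.Weak.M
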