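import Cfsg.Agent.H451.Weak.Pure

/-!
# The centralizer of a pure four-group of the Monster (helper451)

* `card_ext` : `|C_X(a)| ∈ {|C_Y(π a)|, 2 |C_Y(π a)|}` for a central extension `X → Y` with kernel of order 2;
* `card_four` : the order of the centralizer of a four-group all of whose involutions are of class `2A`.
-/

set_option autoImplicit false
set_option linter.constructorNameAsVariable false
set_option linter.unusedSectionVars false
set_option maxRecDepth 100000

open Subgroup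

namespace Cfsg.Agent.H451.Weak.Pure

open Cfsg Cfsg.Lie Cfsg.Agent.Bimonster Cfsg.Agent.Bimonster.Tits Cfsg.Agent.BabyU
open Cfsg.Agent.MonsterX.KSide Cfsg.Agent.MonsterX.KLift Cfsg.Agent.MonsterX.KModel
open Cfsg.Agent.MonsterX.Model Cfsg.Agent.MonsterX.MainPack Cfsg.Agent.MonsterX.MainSimple
open Cfsg.Agent.MonsterX.MainBasic Cfsg.Agent.MonsterU.Assembly Cfsg.Agent.MonsterN.Lit Cfsg.Agent.MonsterN
open Cfsg.Agent.MonsterN.LitInst Cfsg.Agent.MonsterU.Lam2 Cfsg.Agent.MonsterU.TwoCls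
open Cfsg.Agent.BabyComp Cfsg.Agent.R01.Lifts

/-- the centralizer of an element and of its image -/
theorem card_ext {X Y : Type*} [Group X] [Finite X] [Group Y] [Finite Y] {π : X →* Y} {z : X} (h : Ext π z) (a : X) :
    Nat.card ↥(centralizer ({a} : Set X)) = Nat.card ↥(centralizer ({π a} : Set Y)) ∨
      Nat.card ↥(centralizer ({a} : Set X)) = 2 * Nat.card ↥(centralizer ({π a} : Set Y)) := by
  have hk : Nat.card π.ker = 2 := by
    have h1 : (π.ker : Set X) = {1, z} := by
      ext c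
      rw [SetLike.mem_coe, MonoidHom.mem_ker, h.ker]
      rfl
    have h2 : (π.ker : Set X).ncard = 2 := by rw [h1, Set.ncard_pair h.zne.symm]
    exact h2
  set K : Subgroup X := (centralizer ({π a} : Set Y)).comap π with hK
  have hcK : Nat.card K = 2 * Nat.card ↥(centralizer ({π a} : Set Y)) := by
    have h1 : K.index = (centralizer ({π a} : Set Y)).index := index_comap_of_surjective _ h.surj
    have h2 := card_mul_index π.ker
    rw [index_ker, MonoidHom.range_eq_top.2 h.surj, card_top, hk] at h2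
    have h3 := card_mul_index K
    have h4 := card_mul_index (centralizer ({π a} : Set Y))
    rw [h1, ← h2, ← h4, ← mul_assoc] at h3
    exact Nat.eq_of_mul_eq_mul_right (Nat.pos_of_ne_zero index_ne_zero_of_finite) h3
  have hmem : ∀ c : K, (c : X) * a * (c : X)⁻¹ * a⁻¹ ∈ π.ker := by
    intro c
    have h1 := mem_centralizer_singleton_iff.1 (mem_comap.1 c.2)
    rw [MonoidHom.mem_ker, map_mul, map_mul, map_mul, map_inv, map_inv, h1]
    group
  have hcen : ∀ k ∈ π.ker, ∀ c : X, c * k = k * c := by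
    intro k hk c
    rcases (h.ker k).1 ((MonoidHom.mem_ker).1 hk) with h1 | h1
    · rw [h1, mul_one, one_mul]
    · rw [h1]; exact h.comm c
  let χ : K →* π.ker := MonoidHom.mk' (fun c => ⟨(c : X) * a * (c : X)⁻¹ * a⁻¹, hmem c⟩) (by
    intro c d
    apply Subtype.ext
    show ((c : X) * d) * a * ((c : X) * d)⁻¹ * a⁻¹ = ((c : X) * a * (c : X)⁻¹ * a⁻¹) * ((d : X) * a * (d : X)⁻¹ * a⁻¹)
    have h1 := hcen _ (hmem d) (c : X)
    calc ((c : X) * d) * a * ((c : X) * d)⁻¹ * a⁻¹ = (c : X) * ((d : X) * a * (d : X)⁻¹ * a⁻¹) * (a * (c : X)⁻¹ * a⁻¹) := by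
          group
      _ = ((d : X) * a * (d : X)⁻¹ * a⁻¹) * ((c : X) * a * (c : X)⁻¹ * a⁻¹) := by rw [h1]; group
      _ = _ := (hcen _ (hmem d) _).symm)
  have hχ : ∀ c : K, ((χ c : π.ker) : X) = (c : X) * a * (c : X)⁻¹ * a⁻¹ := fun c => rfl
  have h1 : χ.ker.map K.subtype = centralizer ({a} : Set X) := by
    ext c
    rw [mem_centralizer_singleton_iff]
    constructor
    · rintro ⟨c, hc, rfl⟩
      have h2 := congrArg Subtype.val ((MonoidHom.mem_ker).1 hc)
      rw [hχ] at h2
      have h3 : (c : X) * a * (c : X)⁻¹ = a := mul_inv_eq_one.1 h2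
      exact mul_inv_eq_iff_eq_mul.1 h3
    · intro hc
      have hcK : c ∈ K := by
        rw [hK, mem_comap, mem_centralizer_singleton_iff, ← map_mul, ← map_mul, hc]
      refine ⟨⟨c, hcK⟩, ?_, rfl⟩
      rw [SetLike.mem_coe, MonoidHom.mem_ker]
      apply Subtype.ext
      rw [hχ]
      show c * a * c⁻¹ * a⁻¹ = 1
      rw [hc]; group
  have h2 : Nat.card χ.ker = Nat.card ↥(centralizer ({a} : Set X)) := by
    rw [← h1, card_map_of_injective K.subtype_injective]
  have h3 := card_mul_index χ.ker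
  rw [index_ker, h2, hcK] at h3
  have h4 : Nat.card χ.range ∣ 2 := hk ▸ card_subgroup_dvd_card χ.range
  rcases (Nat.dvd_prime Nat.prime_two).1 h4 with h5 | h5
  · right
    rw [h5, mul_one] at h3
    exact h3
  · left
    rw [h5] at h3
    omega

theorem card_t1 {b : Spor.BabyMonster} (hb : IsConj b (PresentedGroup.of Spor.BabyMonster.Gen.t1 : Spor.BabyMonster)) :
    Nat.card ↥(centralizer ({b} : Set Spor.BabyMonster)) = 306129918735099415756800 := by
  rw [Cfsg.Agent.Blocks.SylowIn.card_centralizer_of_isConj hb.symm]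
  exact BM.KHAll.card_cent .t1

variable {V P W : Type} [AddCommGroup V] [Module ℚ V] [Group P] [AddCommGroup W] [Module ℚ W]
  {D : MData V} {M : KS ↥D.G V P W} {x₀ : P} {θ : leechLattice → P} {K₀ : Type} [Group K₀]

/-- **The centralizer of `⟨t, a⟩`.** -/
theorem card_four_t (A : All D K₀) (H : Link D M x₀) (L : Lift M θ) {τ : D.G} {y' : P}
    (T : Cfsg.Agent.MonsterU.InvTwo.TauHyp M θ ⊤ τ y') {y : ℕ → D.G} (hP : PRel y) (hne : y 0 ≠ y 1)
    (hy : ∃ g : D.G, g * tG A.hG A.hR * g⁻¹ = y 10) {a : D.G} (ha : a * a = 1) (ha1 : a ≠ 1) (hat : a ≠ M.ι x₀)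
    (hc : a * M.ι x₀ = M.ι x₀ * a) (h1 : IsConj (M.ι x₀) a) (h2 : IsConj (M.ι x₀) (M.ι x₀ * a)) :
    Nat.card ↥(centralizer ({M.ι x₀} : Set D.G) ⊓ centralizer ({a} : Set D.G)) = 306129918735099415756800 ∨
      Nat.card ↥(centralizer ({M.ι x₀} : Set D.G) ⊓ centralizer ({a} : Set D.G)) = 2 * 306129918735099415756800 := by
  have hfin : Finite D.G := G_finite A.hO
  have hfB : Finite Spor.BabyMonster := Nat.finite_of_card_ne_zero (by rw [BM.KHAll.card_B]; norm_num)
  obtain ⟨q, hq, hqq⟩ := exists_map A H L T hP hne hy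
  have hm : a ∈ BB M x₀ := mem_centralizer_singleton_iff.2 hc
  have h3 := hqq ⟨a, hm⟩ (Subtype.ext ha) (fun h => ha1 (congrArg Subtype.val h)) (fun h => hat (congrArg Subtype.val h)) h1 h2
  have h4 := card_ext hq ⟨a, hm⟩
  rw [card_t1 h3] at h4
  have h5 : (centralizer ({⟨a, hm⟩} : Set (BB M x₀))).map (BB M x₀).subtype =
      centralizer ({M.ι x₀} : Set D.G) ⊓ centralizer ({a} : Set D.G) := by
    ext s
    constructor
    · rintro ⟨s, hs, rfl⟩
      exact ⟨s.2, mem_centralizer_singleton_iff.2 (congrArg Subtype.val (mem_centralizer_singleton_iff.1 hs))⟩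
    · rintro ⟨hs1, hs2⟩
      exact ⟨⟨s, hs1⟩, mem_centralizer_singleton_iff.2 (Subtype.ext (mem_centralizer_singleton_iff.1 hs2)), rfl⟩
  rw [← h5, card_map_of_injective (BB M x₀).subtype_injective]
  exact h4

end Cfsg.Agent.H451.Weak.Pure
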