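import Cfsg.Agent.H451.Weak.Tool
import Cfsg.Agent.BpSpor.MBigEleven

/-!
# S4095 at the prime 2: the Monster, normal 2-subgroups of centralizers, tools (helper451)

* `card_inf_le` : `|C(z) ∩ C(x)| ≤ 2 fr(x) |C_{Co1}(x)|`;
* `exists_z` : `w ∈ V ≤ C(x)` conjugate to `z`, `V` elementary abelian;
* `card_le_mul` : `|D| ≤ |V| |C_D(v)|`;
* `core_of_noTwo` : `O_2(D) = 1` from `NoTwo`.
-/

set_option autoImplicit false
set_option maxRecDepth 100000
set_option linter.unusedSectionVars false

namespace Cfsg.Agent.H451.Weak.M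

open Cfsg Cfsg.Agent.MonsterU Cfsg.Agent.LThreeMB
open Cfsg.Agent.MonsterU.Lam2 Cfsg.Agent.MonsterU.TwoCls
open Cfsg.Agent.BpTab Cfsg.Agent.BpSpor.MBigModel Cfsg.Agent.BpSpor.MBig
open Cfsg.Agent.MonsterX Cfsg.Agent.MonsterX.MainBasic Cfsg.Agent.MonsterX.MainSimple Cfsg.Agent.MonsterX.Model
open Cfsg.Agent.MonsterX.MainPack
open Cfsg.Spor (Co1)
open Subgroup (centralizer zpowers mem_centralizer_singleton_iff)

universe u

/-- **The order of `C(z) ∩ C(x)`.** -/
theorem card_inf_le {p : ℕ} (hp : p.Prime) (ho : Odd p) {x : centralizer ({zz} : Set MG)} (hx : orderOf x = p) :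
    Nat.card ↥(centralizer ({zz} : Set MG) ⊓ centralizer ({(x : MG)} : Set MG)) ≤
      fr (pi x) * 2 * Nat.card ↥(centralizer ({pi x} : Set Co1)) := by
  have hfin := finite
  have hfc := BpSpor.MBigCo.finite_co1
  have hx11 : x ^ p = 1 := by rw [← hx, pow_orderOf_eq_one]
  let f : ↥(centralizer ({zz} : Set MG) ⊓ centralizer ({(x : MG)} : Set MG)) →* Co1 :=
    pi.comp (Subgroup.inclusion inf_le_left)
  have h1 : Nat.card f.range ≤ Nat.card ↥(centralizer ({pi x} : Set Co1)) := by
    refine Subgroup.card_le_of_le ?_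
    rintro _ ⟨d, rfl⟩
    rw [mem_centralizer_singleton_iff]
    show pi (Subgroup.inclusion inf_le_left d) * pi x = pi x * pi (Subgroup.inclusion inf_le_left d)
    rw [← map_mul, ← map_mul]
    congr 1
    exact Subtype.ext (mem_centralizer_singleton_iff.1 d.2.2)
  have h2 : Nat.card f.ker ≤ fr (pi x) * 2 := by
    have h3 := MFive.card_pre chart ho hx11 (⊤ : AddSubgroup L2)
    have h4 : Nat.card {v : L2 // v ∈ (⊤ : AddSubgroup L2) ∧ pi x • v = v} = fr (pi x) :=
      Nat.card_congr (Equiv.subtypeEquivRight fun v => ⟨fun h => h.2, fun h => ⟨AddSubgroup.mem_top v, h⟩⟩)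
    rw [h4] at h3
    have h6 : Nat.card f.ker ≤ Nat.card {q : MG // (q ∈ KDone.K.ι.range ∧ KChart.eta KDone.lft q ∈ (⊤ : AddSubgroup L2)) ∧
        (x : MG) * q = q * x} := by
      refine Nat.card_le_card_of_injective (fun d : f.ker => ⟨((d : ↥(centralizer ({zz} : Set MG) ⊓
        centralizer ({(x : MG)} : Set MG))) : MG), ⟨?_, AddSubgroup.mem_top _⟩, ?_⟩) ?_
      · exact (chart.pi_eq_one _).1 ((MonoidHom.mem_ker).1 d.2)
      · exact (mem_centralizer_singleton_iff.1 d.1.2.2).symm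
      · intro d d' h
        have h' := congrArg Subtype.val h
        exact Subtype.ext (Subtype.ext h')
    exact h6.trans h3.le
  have h3 : Nat.card ↥(centralizer ({zz} : Set MG) ⊓ centralizer ({(x : MG)} : Set MG)) =
      Nat.card f.ker * Nat.card f.range := by
    rw [← Subgroup.card_mul_index f.ker, Subgroup.index_ker]
  rw [h3]
  exact Nat.mul_le_mul h2 h1

section gen

variable {D : Type u} [Group D] [Finite D]

theorem isPGroup_of_sq {V : Subgroup D} (hV : ∀ v ∈ V, v * v = 1) : IsPGroup 2 V := fun v => ⟨1, by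
  rw [pow_one, pow_two]
  exact Subtype.ext (hV v v.2)⟩

theorem comm_of_sq {V : Subgroup D} (hV : ∀ v ∈ V, v * v = 1) : ∀ a ∈ V, ∀ b ∈ V, a * b = b * a := by
  intro a ha b hb
  have h1 := hV _ (mul_mem ha hb)
  have h2 : a * b = (a * b)⁻¹ := eq_inv_of_mul_eq_one_left h1
  have ha' : a⁻¹ = a := inv_eq_of_mul_eq_one_left (hV a ha)
  have hb' : b⁻¹ = b := inv_eq_of_mul_eq_one_left (hV b hb)
  rw [mul_inv_rev, ha', hb'] at h2
  exact h2

/-- `|D| ≤ |V| |C_D(v)|` for `v ∈ V`, `V` normal -/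
theorem card_le_mul {V : Subgroup D} (hVn : V.Normal) {v : D} (hv : v ∈ V) :
    Nat.card D ≤ Nat.card V * Nat.card ↥(centralizer ({v} : Set D)) := by
  rw [← Subgroup.card_mul_index (centralizer ({v} : Set D)), mul_comm]
  refine Nat.mul_le_mul_right _ ?_
  let f : D ⧸ centralizer ({v} : Set D) → V := Quotient.lift
    (fun d : D => (⟨d * v * d⁻¹, hVn.conj_mem v hv d⟩ : V)) (by
      intro a b hab
      have h1 : a⁻¹ * b ∈ centralizer ({v} : Set D) := QuotientGroup.leftRel_apply.1 hab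
      rw [mem_centralizer_singleton_iff] at h1
      apply Subtype.ext
      show a * v * a⁻¹ = b * v * b⁻¹
      calc a * v * a⁻¹ = a * (v * (a⁻¹ * b)) * b⁻¹ := by group
        _ = a * (a⁻¹ * b * v) * b⁻¹ := by rw [h1]
        _ = b * v * b⁻¹ := by group)
  refine Nat.card_le_card_of_injective f ?_
  intro a b
  induction a using Quotient.inductionOn with
  | h a =>
    induction b using Quotient.inductionOn with
    | h b =>
      intro hab
      have h1 : a * v * a⁻¹ = b * v * b⁻¹ := congrArg Subtype.val hab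
      apply Quotient.sound
      refine QuotientGroup.leftRel_apply.2 ?_
      rw [mem_centralizer_singleton_iff]
      calc a⁻¹ * b * v = a⁻¹ * (b * v * b⁻¹) * b := by group
        _ = a⁻¹ * (a * v * a⁻¹) * b := by rw [h1]
        _ = v * (a⁻¹ * b) := by group

/-- **`O_2(D) = 1` from `NoTwo`** -/
theorem core_of_noTwo {p : ℕ} [hp : Fact p.Prime] (hd : p ^ 2 ∣ Nat.card D)
    (ha : ∀ t : D, orderOf t = 2 → ¬ p ^ 2 ∣ Nat.card ↥(centralizer ({t} : Set D))) (hb : NoTwo p D) :
    pCore 2 D = ⊥ := by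
  by_contra hcon
  obtain ⟨V, hVn, hV, hV1⟩ := exists_of_core hcon
  have h2 : Fact (Nat.Prime 2) := ⟨Nat.prime_two⟩
  obtain ⟨P⟩ : Nonempty (Sylow p D) := inferInstance
  -- the action of `P` on `V`
  let φ : (P : Subgroup D) →* MulAut V := (MulAut.conjNormal (H := V)).comp (P : Subgroup D).subtype
  let _ : MulAction (P : Subgroup D) V := MulAction.compHom V φ
  have hsm : ∀ (g : (P : Subgroup D)) (v : V), ((g • v : V) : D) = (g : D) * v * (g : D)⁻¹ := fun g v =>
    MulAut.conjNormal_apply (H := V) (g : D) v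
  have h1 := P.2.card_modEq_card_fixedPoints V
  have h3 : Nat.card (MulAction.fixedPoints (P : Subgroup D) V) = 1 := by
    rw [Nat.card_eq_one_iff_unique]
    refine ⟨⟨?_⟩, ⟨⟨1, fun g => ?_⟩⟩⟩
    · have key : ∀ v : MulAction.fixedPoints (P : Subgroup D) V, (v : V) = 1 := by
        rintro ⟨v, hv⟩
        by_contra hv1
        have ho : orderOf (v : D) = 2 := orderOf_eq_prime (by rw [pow_two]; exact hV v v.2) (by
          intro h; exact hv1 (Subtype.ext h))
        apply ha _ ho
        have h4 : (P : Subgroup D) ≤ centralizer ({(v : D)} : Set D) := by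
          intro g hg
          have h5 := hsm ⟨g, hg⟩ v
          rw [hv ⟨g, hg⟩] at h5
          rw [mem_centralizer_singleton_iff]
          exact (mul_inv_eq_iff_eq_mul.1 h5.symm)
        exact (P.pow_dvd_card_of_pow_dvd_card hd).trans (Subgroup.card_dvd_of_le h4)
      intro v w
      exact Subtype.ext ((key v).trans (key w).symm)
    · apply Subtype.ext
      rw [hsm]
      show (g : D) * 1 * (g : D)⁻¹ = 1
      rw [mul_one, mul_inv_cancel]
  rw [h3] at h1
  obtain ⟨m, hm⟩ := IsPGroup.iff_card.1 (isPGroup_of_sq hV)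
  have hm1 : 1 ≤ m := by
    rcases Nat.eq_zero_or_pos m with h | h
    · exfalso
      rw [h, pow_zero] at hm
      exact hV1 (Subgroup.card_eq_one.1 hm)
    · exact h
  refine hb V hV m hm1 (by rw [hm]) ?_
  rw [hm] at h1
  exact (Nat.modEq_iff_dvd' (Nat.one_le_two_pow)).1 h1.symm

end gen

/-- a conjugate of `z` in an elementary abelian subgroup `V` of `C(x)` -/
theorem exists_z {x : MG} {p : ℕ} (hp : p.Prime) (hp2 : p ≠ 2) (hx : orderOf x = p)
    {V : Subgroup ↥(centralizer ({x} : Set MG))} (hV : ∀ v ∈ V, v * v = 1)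
    {w : ↥(centralizer ({x} : Set MG))} (hw : w ∈ V) {g : MG} (hg : g * zz * g⁻¹ = (w : MG)) :
    ∃ x' : centralizer ({zz} : Set MG), orderOf x' = p ∧ g * (x' : MG) * g⁻¹ = x ∧
      Nat.card ↥(centralizer ({w} : Set ↥(centralizer ({x} : Set MG)))) =
        Nat.card ↥(centralizer ({zz} : Set MG) ⊓ centralizer ({(x' : MG)} : Set MG)) ∧
      Nat.card V * p ∣ Nat.card ↥(centralizer ({zz} : Set MG) ⊓ centralizer ({(x' : MG)} : Set MG)) := by
  have hfin := finite
  have hwx : (w : MG) * x = x * w := mem_centralizer_singleton_iff.1 w.2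
  have hxz : (g⁻¹ * x * g) * zz = zz * (g⁻¹ * x * g) := by
    rw [← hg] at hwx
    calc (g⁻¹ * x * g) * zz = g⁻¹ * (x * (g * zz * g⁻¹)) * g := by group
      _ = g⁻¹ * ((g * zz * g⁻¹) * x) * g := by rw [hwx]
      _ = zz * (g⁻¹ * x * g) := by group
  let x' : centralizer ({zz} : Set MG) := ⟨g⁻¹ * x * g, mem_centralizer_singleton_iff.2 hxz⟩
  have hgx : g * (x' : MG) * g⁻¹ = x := by
    show g * (g⁻¹ * x * g) * g⁻¹ = x
    group
  have hx' : orderOf x' = p := by
    rw [← Subgroup.orderOf_coe, ← hx, ← hgx, ← MulAut.conj_apply, MulEquiv.orderOf_eq]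
  -- the centralizer of `w`
  have e : (centralizer ({zz} : Set MG) ⊓ centralizer ({(x' : MG)} : Set MG)).map (MulAut.conj g).toMonoidHom =
      (centralizer ({w} : Set ↥(centralizer ({x} : Set MG)))).map (centralizer ({x} : Set MG)).subtype := by
    ext s
    constructor
    · rintro ⟨t, ⟨ht1, ht2⟩, rfl⟩
      have h1 := mem_centralizer_singleton_iff.1 ht1
      have h2 := mem_centralizer_singleton_iff.1 ht2
      have h3 : (g * t * g⁻¹) * x = x * (g * t * g⁻¹) := by
        rw [← hgx]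
        calc g * t * g⁻¹ * (g * x' * g⁻¹) = g * (t * x') * g⁻¹ := by group
          _ = g * (x' * t) * g⁻¹ := by rw [h2]
          _ = _ := by group
      have h4 : (g * t * g⁻¹) * w = w * (g * t * g⁻¹) := by
        rw [← hg]
        calc g * t * g⁻¹ * (g * zz * g⁻¹) = g * (t * zz) * g⁻¹ := by group
          _ = g * (zz * t) * g⁻¹ := by rw [h1]
          _ = _ := by group
      exact ⟨⟨g * t * g⁻¹, mem_centralizer_singleton_iff.2 h3⟩, mem_centralizer_singleton_iff.2 (Subtype.ext h4), rfl⟩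
    · rintro ⟨t, ht, rfl⟩
      have h1 : (t : MG) * w = w * t := congrArg Subtype.val (mem_centralizer_singleton_iff.1 ht)
      have h2 : (t : MG) * x = x * t := mem_centralizer_singleton_iff.1 t.2
      refine ⟨g⁻¹ * t * g, ⟨mem_centralizer_singleton_iff.2 ?_, mem_centralizer_singleton_iff.2 ?_⟩, ?_⟩
      · rw [← hg] at h1
        calc g⁻¹ * t * g * zz = g⁻¹ * (t * (g * zz * g⁻¹)) * g := by group
          _ = g⁻¹ * ((g * zz * g⁻¹) * t) * g := by rw [h1]
          _ = _ := by group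
      · show g⁻¹ * t * g * (g⁻¹ * x * g) = g⁻¹ * x * g * (g⁻¹ * t * g)
        calc g⁻¹ * t * g * (g⁻¹ * x * g) = g⁻¹ * (t * x) * g := by group
          _ = g⁻¹ * (x * t) * g := by rw [h2]
          _ = _ := by group
      · show g * (g⁻¹ * t * g) * g⁻¹ = t
        group
  have hc : Nat.card ↥(centralizer ({w} : Set ↥(centralizer ({x} : Set MG)))) =
      Nat.card ↥(centralizer ({zz} : Set MG) ⊓ centralizer ({(x' : MG)} : Set MG)) := by
    rw [← Subgroup.card_map_of_injective (centralizer ({x} : Set MG)).subtype_injective, ← e,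
      Subgroup.card_map_of_injective (MulAut.conj g).injective]
  refine ⟨x', hx', hgx, hc, ?_⟩
  rw [← hc]
  refine Nat.Coprime.mul_dvd_of_dvd_of_dvd ?_ ?_ ?_
  · obtain ⟨m, hm⟩ := IsPGroup.iff_card.1 (isPGroup_of_sq hV)
    rw [hm]
    exact Nat.Coprime.pow_left _ ((Nat.coprime_primes Nat.prime_two hp).2 hp2.symm)
  · refine Subgroup.card_dvd_of_le ?_
    intro v hv
    exact mem_centralizer_singleton_iff.2 (comm_of_sq hV v hv w hw)
  · have hxm : x ∈ centralizer ({x} : Set MG) := mem_centralizer_singleton_iff.2 rfl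
    have h1 : (⟨x, hxm⟩ : ↥(centralizer ({x} : Set MG))) ∈ centralizer ({w} : Set ↥(centralizer ({x} : Set MG))) :=
      mem_centralizer_singleton_iff.2 (Subtype.ext hwx.symm)
    have h2 : orderOf (⟨⟨x, hxm⟩, h1⟩ : ↥(centralizer ({w} : Set ↥(centralizer ({x} : Set MG))))) = p := by
      rw [← Subgroup.orderOf_coe, ← Subgroup.orderOf_coe]
      exact hx
    rw [← h2]
    exact orderOf_dvd_natCard _

end Cfsg.Agent.H451.Weak.M
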