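import Cfsg.Agent.H451.Weak.MBase
import Cfsg.Agent.H109.NrCo
import Cfsg.Agent.BpSpor.UniqueNC

/-!
# S4095 at the prime 2: `O_2(C(x)) = 1` for `x` of order 11 and 13 in the Monster (helper451)
-/

set_option autoImplicit false
set_option maxRecDepth 100000

namespace Cfsg.Agent.H451.Weak.M

open Cfsg Cfsg.Agent.MonsterU Cfsg.Agent.LThreeMB
open Cfsg.Agent.MonsterU.Lam2 Cfsg.Agent.MonsterU.TwoCls
open Cfsg.Agent.BpTab Cfsg.Agent.BpSpor.MBigModel Cfsg.Agent.BpSpor.MBig
open Cfsg.Agent.MonsterX Cfsg.Agent.MonsterX.MainBasic Cfsg.Agent.MonsterX.MainSimple Cfsg.Agent.MonsterX.Model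
open Cfsg.Agent.MonsterX.MainPack
open Cfsg.Spor (Co1)
open Subgroup (centralizer zpowers mem_centralizer_singleton_iff)

theorem core_eleven {x : MG} (hx : orderOf x = 11) : pCore 2 ↥(centralizer ({x} : Set MG)) = ⊥ := by
  have hfin := finite
  have : Fact (Nat.Prime 11) := ⟨by norm_num⟩
  refine core_of_noTwo (p := 11) ?_ (fun t ht => BpSpor.MBigEleven.not_sq_in (Or.inl rfl) t ht)
    (BpSpor.MBigEleven.noTwo hx)
  exact BpSpor.sq_dvd_centralizer (by norm_num) hx (by rw [card_M]; norm_num)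

/-- an elementary abelian subgroup of `C(x)` of order at least 16 contains a conjugate of `z` -/
theorem exists_conj_z {x : MG} {V : Subgroup ↥(centralizer ({x} : Set MG))} (hV : ∀ v ∈ V, v * v = 1)
    (hc : 16 ≤ Nat.card V) : ∃ w ∈ V, ∃ g : MG, g * zz * g⁻¹ = (w : MG) := by
  obtain ⟨w, ⟨v, hv, rfl⟩, hg⟩ := exists_zconj (V.map (centralizer ({x} : Set MG)).subtype) (by
    rintro _ ⟨a, ha, rfl⟩
    rw [← map_mul, hV a ha, map_one]) (by
      rw [Subgroup.card_map_of_injective (centralizer ({x} : Set MG)).subtype_injective]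
      exact hc)
  exact ⟨v, hv, hg⟩

theorem noTwo_thirteen {x : MG} (hx : orderOf x = 13) : NoTwo 13 ↥(centralizer ({x} : Set MG)) := by
  have hfin := finite
  intro A hA m hm hmd hd
  have hm12 : 12 ≤ m := by
    by_contra hlt
    push Not at hlt
    interval_cases m <;> revert hd <;> norm_num
  have hpos : 0 < Nat.card ↥A := Nat.card_pos
  have hcA : 2 ^ 12 ≤ Nat.card ↥A := Nat.le_of_dvd hpos ((pow_dvd_pow 2 hm12).trans hmd)
  obtain ⟨w, hw, g, hg⟩ := exists_conj_z hA (by omega)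
  obtain ⟨x', hx', -, -, hd'⟩ := exists_z (p := 13) (by norm_num) (by norm_num) hx hA hw hg
  have hpx : orderOf (pi x') = 13 := MFive.orderOf_pi chart (by norm_num) (by decide) hx'
  have h1 := card_inf_le (p := 13) (by norm_num) (by decide) hx'
  rw [BpSpor.MBigCo.fr_thirteen hpx] at h1
  have h2 := Nat.le_of_dvd (by norm_num) (H109.Nr.Co.card_cent_co1 hpx)
  have h3 := Nat.le_of_dvd Nat.card_pos hd'
  omega

theorem core_thirteen {x : MG} (hx : orderOf x = 13) : pCore 2 ↥(centralizer ({x} : Set MG)) = ⊥ := by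
  have hfin := finite
  have : Fact (Nat.Prime 13) := ⟨by norm_num⟩
  refine core_of_noTwo (p := 13) ?_ (fun t ht => BpSpor.MBigEleven.not_sq_in (Or.inr rfl) t ht)
    (noTwo_thirteen hx)
  exact BpSpor.sq_dvd_centralizer (by norm_num) hx (by rw [card_M]; norm_num)

end Cfsg.Agent.H451.Weak.M
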