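import Cfsg.Agent.H451.Weak.Four
import Cfsg.Agent.H451.Weak.MBase

/-!
# S4095 at the prime 2: the Monster, the primes dividing `|M|` once (helper451)

* `index_modEq` : `|G : H| ≡ 1 (mod q)` for `H` containing the normalizer of a Sylow `q`-subgroup;
* `exists_V` : an elementary abelian 2-subgroup normalized by `N(⟨w⟩)` from `O_2(C(w)) ≠ 1`;
* `two_case`, `four_case` : `V` of order 2 or 4;
* `cases_V` : `O_2(C(w)) ≠ 1`, `w` of prime order `q`, `q² ∤ |M|`.
-/

set_option autoImplicit false
set_option maxRecDepth 100000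
set_option linter.unusedSectionVars false

namespace Cfsg.Agent.H451.Weak.M

open Cfsg Cfsg.Agent.MonsterX Cfsg.Agent.MonsterX.InstData Cfsg.Agent.MonsterX.MainPack Cfsg.Agent.MonsterU
open Cfsg.Agent.MonsterP Cfsg.Agent.MonsterN Cfsg.Agent.LThreeMB
open Cfsg.Agent.MonsterX.MainBasic Cfsg.Agent.MonsterX.MainSimple Cfsg.Agent.MonsterX.Model
open Cfsg.Agent.MonsterU.Lam2 Cfsg.Agent.MonsterU.TwoCls
open Cfsg.Agent.BpTab Cfsg.Agent.BpSpor.MBigModel Cfsg.Agent.BpSpor.MBig
open Subgroup (centralizer zpowers mem_centralizer_singleton_iff normalizer mem_normalizer_iff)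

universe u

section gen

variable {G : Type u} [Group G] [Finite G]

/-- `|G : H| ≡ 1 (mod q)` if `H` contains the normalizer of a Sylow `q`-subgroup -/
theorem index_modEq {q : ℕ} [Fact q.Prime] (P : Sylow q G) {H : Subgroup G} (h : normalizer (P : Set G) ≤ H) :
    H.index ≡ 1 [MOD q] := by
  have hP : (P : Subgroup G) ≤ H := Subgroup.le_normalizer.trans h
  have h1 := card_sylow_modEq_one q G
  rw [P.card_eq_index_normalizer] at h1
  have h2 := card_sylow_modEq_one q H
  rw [(P.subtype hP).card_eq_index_normalizer] at h2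
  have h3 : normalizer ((P.subtype hP : Subgroup H) : Set H) = (normalizer (P : Set G)).subgroupOf H :=
    (Subgroup.subgroupOf_normalizer_eq hP).symm
  have h4 : (normalizer (P : Set G)).relIndex H ≡ 1 [MOD q] := by
    rw [Subgroup.relIndex, ← h3]
    exact h2
  have h5 := Subgroup.relIndex_mul_index h
  have h6 := h4.mul_right H.index
  rw [h5, one_mul] at h6
  exact h6.symm.trans h1

/-- the same for a subgroup `⟨w⟩` of prime order `q` with `q² ∤ |G|` -/
theorem index_modEq' {q : ℕ} (hq : q.Prime) {w : G} (hw : orderOf w = q) (hd : ¬ q ^ 2 ∣ Nat.card G) {H : Subgroup G}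
    (h : normalizer (zpowers w : Set G) ≤ H) : H.index ≡ 1 [MOD q] := by
  have hqf : Fact q.Prime := ⟨hq⟩
  have h1 : IsPGroup q (zpowers w) := IsPGroup.of_card (n := 1) (by rw [Nat.card_zpowers, hw, pow_one])
  have h2 : ¬ q ∣ (zpowers w).index := by
    intro hcon
    apply hd
    rw [← Subgroup.card_mul_index (zpowers w), Nat.card_zpowers, hw, pow_two]
    exact mul_dvd_mul_left q hcon
  exact index_modEq (h1.toSylow h2) h

/-- **An elementary abelian 2-subgroup normalized by `N(⟨w⟩)`.** -/
theorem exists_V {w : G} (h : pCore 2 ↥(centralizer ({w} : Set G)) ≠ ⊥) :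
    ∃ V : Subgroup G, (∀ v ∈ V, v * v = 1) ∧ V ≠ ⊥ ∧ V ≤ centralizer ({w} : Set G) ∧
      normalizer (zpowers w : Set G) ≤ normalizer (V : Set G) := by
  have h2 : Fact (Nat.Prime 2) := ⟨Nat.prime_two⟩
  set C := centralizer ({w} : Set G) with hC
  set R := (pCore 2 C).map C.subtype with hR
  have hRp : IsPGroup 2 R := (Lib.Cores.pCore_isPGroup (G := C) 2).map _
  have hR1 : R ≠ ⊥ := by
    intro h1
    exact h ((Subgroup.map_eq_bot_iff_of_injective _ C.subtype_injective).1 h1)
  obtain ⟨t, ht, ht2⟩ := exists_omegaZ hRp hR1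
  refine ⟨omegaZ R, fun v hv => hv.2.1, ?_, ?_, ?_⟩
  · intro h1
    rw [h1, Subgroup.mem_bot] at ht
    rw [ht, orderOf_one] at ht2
    norm_num at ht2
  · rintro v ⟨hv, -⟩
    obtain ⟨v, -, rfl⟩ := hv
    exact v.2
  · refine le_trans ?_ (norm_omegaZ R)
    -- `N(⟨w⟩)` normalizes `C(w)`
    have hCn : ∀ g ∈ normalizer (zpowers w : Set G), ∀ c ∈ C, g * c * g⁻¹ ∈ C := by
      intro g hg c hc
      have h3 : g⁻¹ * w * g ∈ zpowers w := by
        have := (mem_normalizer_iff.1 (inv_mem hg) w).1 (Subgroup.mem_zpowers w)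
        rwa [inv_inv] at this
      obtain ⟨k, hk⟩ := h3
      have hk' : w ^ k = g⁻¹ * w * g := hk
      have h4 : Commute c (g⁻¹ * w * g) := by
        rw [← hk']
        exact (show Commute c w from mem_centralizer_singleton_iff.1 hc).zpow_right k
      rw [mem_centralizer_singleton_iff]
      calc g * c * g⁻¹ * w = g * (c * (g⁻¹ * w * g)) * g⁻¹ := by group
        _ = g * (g⁻¹ * w * g * c) * g⁻¹ := by rw [h4]
        _ = w * (g * c * g⁻¹) := by group
    have key : ∀ g ∈ normalizer (zpowers w : Set G), ∀ r ∈ R, g * r * g⁻¹ ∈ R := by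
      rintro g hg _ ⟨r, hr, rfl⟩
      have hmap : C.map (MulAut.conj g).toMonoidHom = C := by
        apply H516.map_eq_of_forall
        intro s hs
        exact hCn g hg s hs
      have h3 : H516.resAut (MulAut.conj g) C hmap r ∈ pCore 2 C := by
        rw [← Lib.Cores.map_equiv_pCore (H516.resAut (MulAut.conj g) C hmap) 2]
        exact ⟨r, hr, rfl⟩
      exact ⟨_, h3, H516.resAut_apply C hmap r⟩
    intro g hg
    rw [mem_normalizer_iff]
    intro r
    constructor
    · exact key g hg r
    · intro hr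
      have h5 := key g⁻¹ (inv_mem hg) _ hr
      rwa [show g⁻¹ * (g * r * g⁻¹) * g⁻¹⁻¹ = r by group] at h5

/-- the normalizer of a subgroup of order 2 -/
theorem norm_two {V : Subgroup G} (h2 : Nat.card V = 2) {v : G} (hv : v ∈ V) (hv1 : v ≠ 1) :
    normalizer (V : Set G) ≤ centralizer ({v} : Set G) := by
  intro g hg
  rw [mem_centralizer_singleton_iff]
  have h1 : g * v * g⁻¹ ∈ V := (mem_normalizer_iff.1 hg v).1 hv
  by_contra hcon
  have h3 : g * v * g⁻¹ ≠ v := fun h => hcon (mul_inv_eq_iff_eq_mul.1 h)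
  have h4 : ({1, v, g * v * g⁻¹} : Set G) ⊆ V := by
    rintro y (rfl | rfl | rfl)
    · exact one_mem _
    · exact hv
    · exact h1
  have h5 : ({1, v, g * v * g⁻¹} : Set G).ncard = 3 := by
    refine Set.ncard_eq_three.2 ⟨1, v, g * v * g⁻¹, hv1.symm, ?_, h3.symm, rfl⟩
    intro h
    apply hv1
    calc v = g⁻¹ * (g * v * g⁻¹) * g := by group
      _ = 1 := by rw [← h]; group
  have h6 := Set.ncard_le_ncard h4 (Set.toFinite _)
  rw [h5] at h6
  have h7 : (V : Set G).ncard = Nat.card V := rfl
  omega

/-- the index of the centralizer of a four-group in its normalizer -/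
theorem norm_four {V : Subgroup G} (h4 : Nat.card V = 4) :
    ∃ e : ℕ, e ∣ 6 ∧ (centralizer (V : Set G)).index = (normalizer (V : Set G)).index * e := by
  set N := normalizer (V : Set G) with hN
  let X := {v : G // v ∈ V ∧ v ≠ 1}
  let act : MulAction N X := {
    smul := fun g v => ⟨(g : G) * v * (g : G)⁻¹, (mem_normalizer_iff.1 g.2 v).1 v.2.1, fun h => v.2.2 (by
      calc (v : G) = (g : G)⁻¹ * ((g : G) * v * (g : G)⁻¹) * g := by group
        _ = 1 := by rw [h]; group)⟩
    one_smul := fun v => Subtype.ext (by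
      show (1 : G) * v * (1 : G)⁻¹ = v
      group)
    mul_smul := fun g h v => Subtype.ext (by
      show ((g : G) * h) * v * ((g : G) * h)⁻¹ = (g : G) * ((h : G) * v * (h : G)⁻¹) * (g : G)⁻¹
      group) }
  have hsm : ∀ (g : N) (v : X), ((g • v : X) : G) = (g : G) * v * (g : G)⁻¹ := fun g v => rfl
  have hX : Nat.card X = 3 := by
    have h1 : Nat.card X = ((V : Set G) \ {1}).ncard := by
      rw [← Nat.card_coe_set_eq]
      exact Nat.card_congr (Equiv.subtypeEquivRight fun v => Iff.rfl)
    rw [h1, Set.ncard_sdiff_singleton_of_mem (one_mem V)]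
    have h2 : (V : Set G).ncard = Nat.card V := rfl
    omega
  let φ := MulAction.toPermHom N X
  have hker : φ.ker.map N.subtype = centralizer (V : Set G) := by
    ext g
    rw [Subgroup.mem_centralizer_iff]
    constructor
    · rintro ⟨g, hg, rfl⟩ v hv
      by_cases hv1 : v = 1
      · rw [hv1, one_mul, mul_one]
      have h1 := congrArg (fun f : Equiv.Perm X => ((f ⟨v, hv, hv1⟩ : X) : G)) ((MonoidHom.mem_ker).1 hg)
      have h2 : (g : G) * v * (g : G)⁻¹ = v := h1
      exact (mul_inv_eq_iff_eq_mul.1 h2).symm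
    · intro hg
      have hc : ∀ v ∈ V, g * v * g⁻¹ = v := by
        intro v hv
        rw [← hg v hv, mul_inv_cancel_right]
      have hgN : g ∈ N := by
        rw [hN, mem_normalizer_iff]
        intro v
        constructor
        · intro hv
          rw [hc v hv]
          exact hv
        · intro hv
          have h1 := hc _ hv
          have h2 : g * v * g⁻¹ = v := by
            have h3 : g * (g * v * g⁻¹) * g⁻¹ = g * v * g⁻¹ := h1
            have h4 := mul_left_cancel (mul_right_cancel h3)
            exact h4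
          rwa [h2] at hv
      refine ⟨⟨g, hgN⟩, ?_, rfl⟩
      rw [SetLike.mem_coe, MonoidHom.mem_ker]
      ext v
      exact hc v v.2.1
  refine ⟨Nat.card φ.range, ?_, ?_⟩
  · have h1 := Subgroup.card_subgroup_dvd_card φ.range
    rw [Nat.card_perm, hX] at h1
    exact h1
  · have h1 : Nat.card φ.ker = Nat.card (centralizer (V : Set G)) := by
      rw [← hker, Subgroup.card_map_of_injective N.subtype_injective]
    have h2 := Subgroup.card_mul_index φ.ker
    rw [Subgroup.index_ker, h1] at h2
    have h3 := Subgroup.card_mul_index N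
    have h4 := Subgroup.card_mul_index (centralizer (V : Set G))
    rw [← h3, ← h2] at h4
    have h5 : 0 < Nat.card (centralizer (V : Set G)) := Nat.card_pos
    refine Nat.eq_of_mul_eq_mul_left h5 ?_
    rw [h4]
    ring

end gen

/-- **The centralizer of a four-group all of whose involutions are of class `2A`.** -/
theorem card_cent_four {V : Subgroup MG} (hV : ∀ v ∈ V, v * v = 1) (h4 : Nat.card V = 4)
    (hA : ∀ v ∈ V, v ≠ 1 → LThreeB.Row.TA v) :
    Nat.card ↥(centralizer (V : Set MG)) = 306129918735099415756800 ∨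
      Nat.card ↥(centralizer (V : Set MG)) = 2 * 306129918735099415756800 := by
  classical
  have hfin := finite
  obtain ⟨u, hu, hu1⟩ := BpSpor.MBigPure.exists_notMem V [1] (by simp only [List.length]; omega)
  simp only [List.mem_cons, List.not_mem_nil, or_false] at hu1
  have h2 : IsConj (tG LitFin.all.hG LitFin.all.hR) _ := LThreeB.Par.ta_iota LitFin.all KDone.lnk KDone.lft
  have h1 : IsConj (tG LitFin.all.hG LitFin.all.hR) u := hA u hu hu1
  obtain ⟨c, hcu⟩ := isConj_iff.1 (h1.symm.trans h2)
  obtain ⟨a, ha, hau⟩ := BpSpor.MBigPure.exists_notMem V [1, u] (by simp only [List.length]; omega)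
  simp only [List.mem_cons, List.not_mem_nil, or_false, not_or] at hau
  -- the elements of `V`
  have hab : ∀ a ∈ V, ∀ b ∈ V, a * b = b * a := by
    intro a ha b hb
    have h1 := hV _ (mul_mem ha hb)
    have h2 : a * b = (a * b)⁻¹ := eq_inv_of_mul_eq_one_left h1
    have ha' : a⁻¹ = a := inv_eq_of_mul_eq_one_left (hV a ha)
    have hb' : b⁻¹ = b := inv_eq_of_mul_eq_one_left (hV b hb)
    rw [mul_inv_rev, ha', hb'] at h2
    exact h2
  have hua1 : u * a ≠ 1 := by
    intro h
    apply hau.2
    calc a = u * u * a := by rw [hV u hu, one_mul]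
      _ = u * (u * a) := by group
      _ = u := by rw [h, mul_one]
  have hall : ∀ v ∈ V, v = 1 ∨ v = u ∨ v = a ∨ v = u * a := by
    intro v hv
    by_contra hcon
    push Not at hcon
    have h5 : ({1, u, a, u * a, v} : Finset MG).card = 5 := by
      have e1 : a ≠ u * a := fun h => hu1 (mul_right_cancel (b := a) (by rw [one_mul]; exact h.symm))
      have e2 : u ≠ u * a := fun h => hau.1 (mul_left_cancel (a := u) (by rw [mul_one]; exact h.symm))
      rw [Finset.card_insert_of_notMem, Finset.card_insert_of_notMem, Finset.card_insert_of_notMem,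
        Finset.card_insert_of_notMem, Finset.card_singleton]
      · simp only [Finset.mem_singleton]; exact fun h => hcon.2.2.2 h.symm
      · simp only [Finset.mem_insert, Finset.mem_singleton, not_or]
        exact ⟨e1, fun h => hcon.2.2.1 h.symm⟩
      · simp only [Finset.mem_insert, Finset.mem_singleton, not_or]
        exact ⟨fun h => hau.2 h.symm, e2, fun h => hcon.2.1 h.symm⟩
      · simp only [Finset.mem_insert, Finset.mem_singleton, not_or]
        exact ⟨fun h => hu1 h.symm, fun h => hau.1 h.symm, fun h => hua1 h.symm, fun h => hcon.1 h.symm⟩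
    have h6 : (({1, u, a, u * a, v} : Finset MG) : Set MG) ⊆ V := by
      intro y hy
      simp only [Finset.coe_insert, Finset.coe_singleton, Set.mem_insert_iff, Set.mem_singleton_iff] at hy
      rcases hy with rfl | rfl | rfl | rfl | rfl
      · exact one_mem _
      · exact hu
      · exact ha
      · exact mul_mem hu ha
      · exact hv
    have h7 := Set.ncard_le_ncard h6 (Set.toFinite _)
    rw [Set.ncard_coe_finset, h5] at h7
    have h8 : (V : Set MG).ncard = Nat.card V := rfl
    omega
  have hcV : centralizer (V : Set MG) = centralizer ({u} : Set MG) ⊓ centralizer ({a} : Set MG) := by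
    ext s
    rw [Subgroup.mem_centralizer_iff, Subgroup.mem_inf, mem_centralizer_singleton_iff, mem_centralizer_singleton_iff]
    constructor
    · intro h
      exact ⟨(h u hu).symm, (h a ha).symm⟩
    · rintro ⟨h1, h2⟩ v hv
      rcases hall v hv with rfl | rfl | rfl | rfl
      · rw [one_mul, mul_one]
      · exact h1.symm
      · exact h2.symm
      · rw [mul_assoc, ← h2, ← mul_assoc, ← h1, mul_assoc]
  have hconj : ∀ v : MG, IsConj (tG LitFin.all.hG LitFin.all.hR) v → IsConj (KDone.K.ι _) (c * v * c⁻¹) := fun v hv =>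
    h2.symm.trans (hv.trans (isConj_iff.2 ⟨c, rfl⟩))
  have hne : ∀ {v v' : MG}, v ≠ v' → c * v * c⁻¹ ≠ c * v' * c⁻¹ := fun h h' =>
    h (mul_left_cancel (mul_right_cancel h'))
  have key := Pure.card_four_t LitFin.all KDone.lnk KDone.lft
    (TauInst.tauHyp (Final.cent InstanceFinal.mOrbit Instance.mTrans)) (NodesGrp.prel LitFin.H)
    (NodesNe.ne LitFin.H) LitFin.conj_ten (a := c * a * c⁻¹)
    (by rw [show c * a * c⁻¹ * (c * a * c⁻¹) = c * (a * a) * c⁻¹ by group, hV a ha]; group)
    (by
      intro h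
      apply hau.1
      calc a = c⁻¹ * (c * a * c⁻¹) * c := by group
        _ = 1 := by rw [h]; group)
    (by rw [← hcu]; exact hne hau.2)
    (by
      rw [← hcu]
      calc c * a * c⁻¹ * (c * u * c⁻¹) = c * (a * u) * c⁻¹ := by group
        _ = c * (u * a) * c⁻¹ := by rw [hab a ha u hu]
        _ = _ := by group)
    (hconj a (hA a ha hau.1))
    (by
      have h3 := hconj (u * a) (hA (u * a) (mul_mem hu ha) hua1)
      have h4 : c * (u * a) * c⁻¹ = c * u * c⁻¹ * (c * a * c⁻¹) := by group
      rw [h4, hcu] at h3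
      exact h3)
  rw [← hcu] at key
  have hmap : (centralizer ({u} : Set MG) ⊓ centralizer ({a} : Set MG)).map (MulAut.conj c).toMonoidHom =
      centralizer ({c * u * c⁻¹} : Set MG) ⊓ centralizer ({c * a * c⁻¹} : Set MG) := by
    rw [Subgroup.map_inf _ _ _ (MulAut.conj c).injective]
    congr 1
    · exact map_cent_equiv (MulAut.conj c) u
    · exact map_cent_equiv (MulAut.conj c) a
  rw [← hmap, Subgroup.card_map_of_injective (MulAut.conj c).injective, ← hcV] at key
  exact key

/-- **The three cases.** -/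
theorem cases_V {q : ℕ} (hq : q.Prime) (hd : ¬ q ^ 2 ∣ Nat.card MG) {w : MG} (hw : orderOf w = q)
    (hne : pCore 2 ↥(centralizer ({w} : Set MG)) ≠ ⊥) :
    (97239461142009186000 ≡ 1 [MOD q] ∧ ∃ v : MG, LThreeB.Row.TA v ∧
        centralizer ({w} : Set MG) ≤ centralizer ({v} : Set MG)) ∨
      ((2639459181687194563957260000000 ≡ 1 [MOD q] ∨ 2639459181687194563957260000000 ≡ 2 [MOD q] ∨
        2639459181687194563957260000000 ≡ 3 [MOD q] ∨ 2639459181687194563957260000000 ≡ 6 [MOD q]) ∨
       (1319729590843597281978630000000 ≡ 1 [MOD q] ∨ 1319729590843597281978630000000 ≡ 2 [MOD q] ∨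
        1319729590843597281978630000000 ≡ 3 [MOD q] ∨ 1319729590843597281978630000000 ≡ 6 [MOD q])) ∨
      ∃ V : Subgroup MG, (∀ v ∈ V, v * v = 1) ∧ V ≤ centralizer ({w} : Set MG) ∧
        normalizer (zpowers w : Set MG) ≤ normalizer (V : Set MG) ∧ ∃ v ∈ V, ∃ g : MG, g * zz * g⁻¹ = v := by
  have hfin := finite
  have h2 : Fact (Nat.Prime 2) := ⟨Nat.prime_two⟩
  obtain ⟨V, hV, hV1, hVC, hN⟩ := exists_V hne
  by_cases hz : ∃ v ∈ V, ∃ g : MG, g * zz * g⁻¹ = v
  · exact Or.inr (Or.inr ⟨V, hV, hVC, hN, hz⟩)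
  have hTA : ∀ v ∈ V, v ≠ 1 → LThreeB.Row.TA v := by
    intro v hv hv1
    refine (cls (orderOf_eq_prime (by rw [pow_two, hV v hv]) hv1)).resolve_left ?_
    rintro ⟨g, hg⟩
    exact hz ⟨v, hv, g, hg⟩
  obtain ⟨k, hk⟩ := IsPGroup.iff_card.1 (isPGroup_of_sq hV)
  have hk8 : ¬ 8 ≤ Nat.card V := fun h => hz (exists_zconj V hV h)
  have hk3 : k = 0 ∨ k = 1 ∨ k = 2 := by
    by_contra hcon
    have h3 : 3 ≤ k := by omega
    have h4 : 2 ^ 3 ≤ 2 ^ k := Nat.pow_le_pow_right (by norm_num) h3
    omega
  have hCN : ∀ {H : Subgroup MG}, normalizer (V : Set MG) ≤ H → H.index ≡ 1 [MOD q] := fun h =>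
    index_modEq' hq hw hd (hN.trans h)
  rcases hk3 with rfl | rfl | rfl
  · exfalso
    rw [pow_zero] at hk
    exact hV1 (Subgroup.card_eq_one.1 hk)
  · left
    rw [pow_one] at hk
    obtain ⟨v, hv, hv1⟩ := (Subgroup.bot_or_exists_ne_one V).resolve_left hV1
    have h3 := norm_two hk hv hv1
    have h4 := hCN h3
    have h5 := Subgroup.card_mul_index (centralizer ({v} : Set MG))
    rw [card_cent_t (hTA v hv hv1), card_M] at h5
    have h6 : (centralizer ({v} : Set MG)).index = 97239461142009186000 := by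
      refine Nat.eq_of_mul_eq_mul_left (show 0 < 2 * 4154781481226426191177580544000000 by norm_num) (h5.trans ?_)
      norm_num
    rw [h6] at h4
    refine ⟨h4, v, hTA v hv hv1, ?_⟩
    refine le_trans ?_ (hN.trans h3)
    intro g hg
    rw [mem_centralizer_singleton_iff] at hg
    rw [mem_normalizer_iff]
    have h7 : ∀ i : ℤ, g * w ^ i * g⁻¹ = w ^ i := by
      intro i
      have h8 : Commute g (w ^ i) := (show Commute g w from hg).zpow_right i
      rw [h8.eq, mul_inv_cancel_right]
    intro x
    constructor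
    · rintro ⟨i, rfl⟩
      exact ⟨i, (h7 i).symm⟩
    · rintro ⟨i, hi⟩
      refine ⟨i, ?_⟩
      have h8 : g * (w ^ i) * g⁻¹ = g * x * g⁻¹ := (h7 i).trans hi
      exact mul_left_cancel (mul_right_cancel h8)
  · right
    left
    have h4 : Nat.card V = 4 := by rw [hk]; norm_num
    obtain ⟨e, he, hidx⟩ := norm_four h4
    have h3 := hCN (H := normalizer (V : Set MG)) le_rfl
    have h5 : (centralizer (V : Set MG)).index ≡ e [MOD q] := by
      rw [hidx]
      have := h3.mul_right e
      rwa [one_mul] at this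
    have he' : e = 1 ∨ e = 2 ∨ e = 3 ∨ e = 6 := by
      have h6 : e ≤ 6 := Nat.le_of_dvd (by norm_num) he
      interval_cases e <;> revert he <;> norm_num
    have h6 := Subgroup.card_mul_index (centralizer (V : Set MG))
    rw [card_M] at h6
    rcases card_cent_four hV h4 hTA with h7 | h7
    · left
      rw [h7] at h6
      have h8 : (centralizer (V : Set MG)).index = 2639459181687194563957260000000 := by
        refine Nat.eq_of_mul_eq_mul_left (show 0 < 306129918735099415756800 by norm_num) (h6.trans ?_)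
        norm_num
      rw [h8] at h5
      rcases he' with rfl | rfl | rfl | rfl
      · exact Or.inl h5
      · exact Or.inr (Or.inl h5)
      · exact Or.inr (Or.inr (Or.inl h5))
      · exact Or.inr (Or.inr (Or.inr h5))
    · right
      rw [h7] at h6
      have h8 : (centralizer (V : Set MG)).index = 1319729590843597281978630000000 := by
        refine Nat.eq_of_mul_eq_mul_left (show 0 < 2 * 306129918735099415756800 by norm_num) (h6.trans ?_)
        norm_num
      rw [h8] at h5
      rcases he' with rfl | rfl | rfl | rfl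
      · exact Or.inl h5
      · exact Or.inr (Or.inl h5)
      · exact Or.inr (Or.inr (Or.inl h5))
      · exact Or.inr (Or.inr (Or.inr h5))

end Cfsg.Agent.H451.Weak.M
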