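import Cfsg.Agent.H451.Weak.MSeven
import Cfsg.Agent.H199.NSmMon
import Cfsg.Agent.H993.NoBadM
import Cfsg.Agent.LThreeCo1.Ranks
import Cfsg.Agent.H546.MFiveFull

/-!
# S4095 at the prime 2: elements of order 3 and 5 of the Monster (helper451)

* `core_zero` : `O_2(C(x)) = 1` for `x` of odd prime order and fixed rank 0;
* `core_three` : `O_2(C(x)) = 1` for `x` of order 3;
* `core_five` : `O_2(C(x)) = 1` or `4 ∤ |C(x)|`, for `x` of order 5.
-/

set_option autoImplicit false
set_option maxRecDepth 100000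

namespace Cfsg.Agent.H451.Weak.M

open Cfsg Cfsg.Agent.MonsterX Cfsg.Agent.MonsterX.InstData Cfsg.Agent.MonsterX.MainPack Cfsg.Agent.MonsterU
open Cfsg.Agent.MonsterP Cfsg.Agent.MonsterN Cfsg.Agent.LThreeMB
open Cfsg.Agent.MonsterX.MainBasic Cfsg.Agent.MonsterX.MainSimple Cfsg.Agent.MonsterX.Model
open Cfsg.Agent.MonsterU.Lam2 Cfsg.Agent.MonsterU.TwoCls
open Cfsg.Agent.BpSpor.MBigModel
open Cfsg.Spor (Co1)
open Subgroup (centralizer zpowers mem_centralizer_singleton_iff)

/-- **Fixed rank 0.** -/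
theorem core_zero {p : ℕ} (hp : p.Prime) (hp2 : p ≠ 2) {x : centralizer ({zz} : Set MG)} (hx : orderOf x = p)
    (hfr : fr (pi x) = 1) (hs : IsSimpleGroup (XX (pi x))) {q : ℕ} (hq : q.Prime) (hq2 : q ≠ 2)
    (hd : q ∣ Nat.card (XX (pi x)))
    (hnc : ∃ g : ↥(centralizer ({(x : MG)} : Set MG)), g * zD x ≠ zD x * g) :
    pCore 2 ↥(centralizer ({(x : MG)} : Set MG)) = ⊥ := by
  have hfin := finite
  have h2 : Fact (Nat.Prime 2) := ⟨Nat.prime_two⟩
  have ho : Odd p := hp.odd_of_ne_two hp2
  have hx3 : x ^ p = 1 := by rw [← hx, pow_orderOf_eq_one]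
  set R := pCore 2 ↥(centralizer ({(x : MG)} : Set MG)) with hR
  have hRn : R.Normal := Lib.Cores.pCore_normal 2
  have hRp : IsPGroup 2 R := Lib.Cores.pCore_isPGroup 2
  refine core_of_unique (z := zD x) (MFive.orderOf_zD chart x) ?_ hnc
  intro v hv hv2 hvz
  -- the image of `R ∩ C(z)` in the simple group
  have hf : Function.Surjective (toXX pi x) := MFive.toXX_surj chart hp ho hx3
  have h1 : ((R.subgroupOf (centralizer ({zD x} : Set ↥(centralizer ({(x : MG)} : Set MG))))).map (toXX pi x)).Normal :=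
    (hRn.subgroupOf _).map _ hf
  have hvm : v ∈ centralizer ({zD x} : Set ↥(centralizer ({(x : MG)} : Set MG))) := mem_centralizer_singleton_iff.2 hvz
  rcases h1.eq_bot_or_eq_top with h | h
  · have h3 : (toXX pi x) ⟨v, hvm⟩ ∈
        (R.subgroupOf (centralizer ({zD x} : Set ↥(centralizer ({(x : MG)} : Set MG))))).map (toXX pi x) :=
      Subgroup.mem_map_of_mem _ (Subgroup.mem_subgroupOf.2 hv)
    rw [h, Subgroup.mem_bot] at h3
    obtain ⟨i, hi⟩ := CpAutBFive.ker_toXX chart ho hx3 hfr (MonoidHom.mem_ker.2 h3)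
    have hxo : (x : MG) ^ p = 1 := congrArg Subtype.val hx3
    have hv2' : ((v : MG)) ^ 2 = 1 := by
      have := pow_orderOf_eq_one v
      rw [hv2] at this
      exact congrArg Subtype.val this
    have hxz : (x : MG) * zz = zz * x := mem_centralizer_singleton_iff.1 x.2
    have key : ((x : MG) ^ i) ^ 2 = 1 → (x : MG) ^ i = 1 := by
      intro h4
      have h5 : ((x : MG) ^ i) ^ p = 1 := by
        rw [← zpow_natCast, ← zpow_mul, mul_comm, zpow_mul, zpow_natCast, hxo, one_zpow]
      obtain ⟨m, hm⟩ := ho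
      rw [hm, pow_succ, pow_mul, h4, one_pow, one_mul] at h5
      exact h5
    rcases hi with hi | hi
    · exfalso
      have hi' : (v : MG) = (x : MG) ^ i := hi
      rw [hi'] at hv2'
      have h6 := key hv2'
      rw [h6] at hi'
      have h7 : v = 1 := Subtype.ext hi'
      rw [h7, orderOf_one] at hv2
      norm_num at hv2
    · have hi' : (v : MG) = (x : MG) ^ i * zz := hi
      have hcz : Commute ((x : MG) ^ i) zz := (show Commute (x : MG) zz from hxz).zpow_left i
      rw [hi', hcz.mul_pow, show zz ^ 2 = 1 by rw [pow_two, zz_sq], mul_one] at hv2'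
      rw [key hv2', one_mul] at hi'
      exact Subtype.ext hi'
  · exfalso
    have h3 : IsPGroup 2 (⊤ : Subgroup (XX (pi x))) := by
      rw [← h]
      have h4 : IsPGroup 2 (R.subgroupOf (centralizer ({zD x} : Set ↥(centralizer ({(x : MG)} : Set MG))))) :=
        hRp.comap_of_injective _ (Subgroup.subtype_injective _)
      exact h4.map _
    have hfX : Finite (XX (pi x)) := Finite.of_surjective _ hf
    obtain ⟨k, hk⟩ := IsPGroup.iff_card.1 h3
    rw [Subgroup.card_top] at hk
    rw [hk] at hd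
    exact hq2 ((Nat.prime_dvd_prime_iff_eq hq Nat.prime_two).1 (hq.dvd_of_dvd_pow hd))

theorem trNe_three : TrNe zz pi :=
  KPair.trNe KDone.lft LThreeB.Row.cent (LThreeMBTr.traceNe KDone.lft LThreeMBTr.TensK.tens)

/-- order 3, fixed rank 0 -/
theorem core_three_zero {x : centralizer ({zz} : Set MG)} (hx : orderOf x = 3) (hfr : fr (pi x) = 1) :
    pCore 2 ↥(centralizer ({(x : MG)} : Set MG)) = ⊥ := by
  have hfin := finite
  have hsim := simple
  obtain ⟨x₀, hx₀, hfr₀, hidx⟩ := H993.NoBadM.exists_zero chart CoOneFin.coOne trNe_three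
    (KPair.hasPair KDone.lft LThreeB.Row.cent PreUniq.MonRow.second COct.octPair)
    (fun y hy ⟨v, hv, hv1, hc⟩ => LThreeM.FiRow.exists_z_of_comm (by rw [← hy, pow_orderOf_eq_one]) hv hv1 hc.symm)
    (by rw [card_M]; norm_num)
  have hc20 : 3 ^ 20 ∣ Nat.card ↥(centralizer ({(x₀ : MG)} : Set MG)) := by
    refine Nat.Coprime.dvd_of_dvd_mul_right (k := 3 ^ 20) (n := (centralizer ({(x₀ : MG)} : Set MG)).index) ?_ ?_
    · exact Nat.Coprime.pow_left 20 ((Nat.Prime.coprime_iff_not_dvd Nat.prime_three).2 hidx)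
    · rw [Subgroup.card_mul_index, card_M]; norm_num
  have hcl : MFive.WClassOf 3 1 := MFive.ClassOf.weak LThreeCo1.Ranks.zero
  have hcc := BpSpor.M5.card_eq_zero_rank chart Nat.prime_three (by decide) hcl hx₀ hfr₀ hx hfr
  rw [hcc] at hc20
  obtain ⟨e⟩ := CoOneFin.coOne.suz (pi x) (orderOf_pi chart hx) hfr
  have hs : IsSimpleGroup (XX (pi x)) := (MulEquiv.isSimpleGroup_congr e).2 Cfsg.Agent.S1694.result.1
  have hc : Nat.card (XX (pi x)) = 448345497600 := by rw [Nat.card_congr e.toEquiv, Cfsg.Agent.S1694.result.2]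
  refine core_zero Nat.prime_three (by norm_num) hx hfr hs Nat.prime_three (by norm_num) (by rw [hc]; norm_num) ?_
  by_contra hcon
  push Not at hcon
  have h1 : 3 ^ 20 ∣ Nat.card ↥(centralizer ({zz} : Set MG)) := by
    refine hc20.trans (Subgroup.card_dvd_of_le ?_)
    intro g hg
    rw [mem_centralizer_singleton_iff]
    exact congrArg Subtype.val (hcon ⟨g, hg⟩)
  rw [card_cent_z] at h1
  revert h1
  norm_num

theorem core_three_in {x : centralizer ({zz} : Set MG)} (hx : orderOf x = 3) :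
    pCore 2 ↥(centralizer ({(x : MG)} : Set MG)) = ⊥ := by
  have := finite
  have := simple
  have I := CoOneFin.coOne
  have hxo : orderOf (x : MG) = 3 := by rw [Subgroup.orderOf_coe, hx]
  rcases I.ranks (pi x) (orderOf_pi chart hx) with h1 | h1 | h1 | h1
  · exact core_three_zero hx h1
  · obtain ⟨x₀, u, g, hx₀, hfr₀, huz, hux, hne, hg⟩ :=
      KPair.hasPair KDone.lft LThreeB.Row.cent PreUniq.MonRow.second COct.octPair
    obtain ⟨k, hk⟩ := conj_six chart trNe_three I.ranks I.six
      (fun x hx h2 => ⟨(good_of_inputs chart I hx h2 : Good.{0} _).simple, (good_of_inputs chart I hx h2 : Good.{0} _).nc⟩)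
      hx₀ hfr₀ huz hux hne hg hx h1
    have h2 := core_three_zero hx₀ hfr₀
    have h3 : MulAut.conj k⁻¹ (x₀ : MG) = x := by
      rw [← hk, MulAut.conj_apply]
      group
    have h4 := H509.Weak.pCore_equiv (H509.Weak.centEquiv (MulAut.conj k⁻¹) (x₀ : MG)) h2
    rwa [h3] at h4
  · obtain ⟨e⟩ := LThreeB.isoTh_of_inputs chart I hx h1
    exact core_of_XX (by rw [hxo]; decide) ((MulEquiv.isSimpleGroup_congr e).2 Cfsg.Agent.S1700.result.1)
      Nat.prime_three (by norm_num) (by rw [Nat.card_congr e.toEquiv, Cfsg.Agent.S1700.result.2]; norm_num)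
  · obtain ⟨e⟩ := LThreeB.isoFi_of_inputs chart I hx h1
    exact core_of_XX (by rw [hxo]; decide) ((MulEquiv.isSimpleGroup_congr e).2 Cfsg.Agent.S1698.result.1)
      Nat.prime_three (by norm_num) (by rw [Nat.card_congr e.toEquiv, Cfsg.Agent.S1698.result.2]; norm_num)

/-- **Order 3.** -/
theorem core_three {x : MG} (hx : orderOf x = 3) : pCore 2 ↥(centralizer ({x} : Set MG)) = ⊥ := by
  have hfin := finite
  by_cases ho : Odd (Nat.card ↥(centralizer ({x} : Set MG)))
  · exact core_of_odd ho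
  exact core_of_ev hx (H199.NSmMon.ev_of_even hx ho) fun x' hx' => core_three_in hx'

/-- order 5, fixed rank 0 -/
theorem core_five_zero {x : centralizer ({zz} : Set MG)} (hx : orderOf x = 5) (hfr : fr (pi x) = 1) :
    pCore 2 ↥(centralizer ({(x : MG)} : Set MG)) = ⊥ := by
  have hfin := finite
  have hpx := MFive.orderOf_pi chart Nat.prime_five (by decide) hx
  have hx5 : x ^ 5 = 1 := by rw [← hx, pow_orderOf_eq_one]
  obtain ⟨e⟩ := CpAutBFive.Final.hJ (pi x) hpx hfr
  have hs : IsSimpleGroup (XX (pi x)) := (MulEquiv.isSimpleGroup_congr e).2 Cfsg.Agent.S1620.result.1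
  have hc : Nat.card (XX (pi x)) = 604800 := by
    rw [Nat.card_congr e.toEquiv, Cfsg.Agent.J2Sylow.SporSylow.card_J2]
  refine core_zero Nat.prime_five (by norm_num) hx hfr hs Nat.prime_five (by norm_num) (by rw [hc]; norm_num) ?_
  by_contra hcon
  push Not at hcon
  have h4 := BpSpor.M5.dvd_zero chart BpSpor.M5.trNe (CpAutBFive.Closed.coFive H546.MFiveFull.hJ)
    CpAutBFive.Closed.hnEight BpSpor.M5.hasPair (CoFive.Ranks.wclassOf _) CoFive.Sylow.exists_four hx hfr
  -- the order of `C(x) ∩ C(z)`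
  have h1 : Nat.card ↥(centralizer ({zD x} : Set ↥(centralizer ({(x : MG)} : Set MG)))) =
      Nat.card ↥(centralizer ({(x : MG)} : Set MG)) := by
    have h2 : centralizer ({zD x} : Set ↥(centralizer ({(x : MG)} : Set MG))) = ⊤ := by
      rw [eq_top_iff]
      intro g _
      exact mem_centralizer_singleton_iff.2 (hcon g)
    rw [h2, Subgroup.card_top]
  have hf : Function.Surjective (toXX pi x) := MFive.toXX_surj chart Nat.prime_five (by decide) hx5
  have h2 : Nat.card ↥(centralizer ({zD x} : Set ↥(centralizer ({(x : MG)} : Set MG)))) =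
      Nat.card (toXX pi x).ker * 604800 := by
    rw [← Subgroup.card_mul_index (toXX pi x).ker, Subgroup.index_ker, MonoidHom.range_eq_top.2 hf, Subgroup.card_top, hc]
  have h3 : Nat.card (toXX pi x).ker ≤ 10 := by
    have hK : ∀ g : (toXX pi x).ker, ∃ i : ZMod 5 × Bool,
        (((g : ↥(centralizer ({zD x} : Set ↥(centralizer ({(x : MG)} : Set MG))))) :
          ↥(centralizer ({(x : MG)} : Set MG))) : MG) = (x : MG) ^ (i.1.val) * (if i.2 then zz else 1) := by
      intro g
      obtain ⟨i, hi⟩ := CpAutBFive.ker_toXX chart (by decide : Odd 5) hx5 hfr g.2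
      have hxo : (x : MG) ^ 5 = 1 := congrArg Subtype.val hx5
      have h5 : (x : MG) ^ i = (x : MG) ^ ((i : ZMod 5).val) := by
        have h6 : ((i : ZMod 5).val : ℤ) = i % 5 := by
          rw [ZMod.val_intCast]; rfl
        rw [← zpow_natCast, h6]
        conv_lhs => rw [← Int.emod_add_mul_ediv i 5]
        rw [zpow_add, zpow_mul, show ((x : MG) ^ (5 : ℤ)) = 1 from by exact_mod_cast hxo, one_zpow, mul_one]
      rcases hi with hi | hi
      · exact ⟨⟨(i : ZMod 5), false⟩, (hi.trans h5).trans (mul_one _).symm⟩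
      · exact ⟨⟨(i : ZMod 5), true⟩, hi.trans (congrArg (fun s : MG => s * zz) h5)⟩
    choose F hF using hK
    have hinj : Function.Injective F := by
      intro a b hab
      apply Subtype.ext
      apply Subtype.ext
      apply Subtype.ext
      rw [hF a, hF b, hab]
    have h5 := Nat.card_le_card_of_injective F hinj
    have hb : Nat.card Bool = 2 := by simp
    rw [Nat.card_prod, Nat.card_zmod, hb] at h5
    omega
  have h5 : 5 ^ 4 ∣ Nat.card (toXX pi x).ker * 604800 := by rw [← h2, h1]; exact h4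
  have h0 : 0 < Nat.card (toXX pi x).ker := Nat.card_pos
  generalize Nat.card (toXX pi x).ker = k at *
  interval_cases k <;> revert h5 <;> norm_num

/-- **Order 5.** -/
theorem core_five {x : MG} (hx : orderOf x = 5) :
    pCore 2 ↥(centralizer ({x} : Set MG)) = ⊥ ∨ ¬ 4 ∣ Nat.card ↥(centralizer ({x} : Set MG)) := by
  have hfin := finite
  have hsim := simple
  refine (CpAutBFive.EvenRow.cases hx).imp_left fun h => core_of_ev hx h fun x' hx' => ?_
  have hxo : orderOf (x' : MG) = 5 := by rw [Subgroup.orderOf_coe, hx']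
  rcases MFive.cases_five chart BpSpor.M5.trNe (CpAutBFive.Closed.coFive CpAutBFive.Final.hJ)
    CpAutBFive.Closed.hnEight BpSpor.M5.hasPair hx' with ⟨⟨e⟩⟩ | ⟨x₀, k, i, hx₀, hfr, hk⟩
  · exact core_of_XX (by rw [hxo]; decide) ((MulEquiv.isSimpleGroup_congr e).2 Cfsg.Agent.S1701.result.1)
      Nat.prime_five (by norm_num) (by rw [Nat.card_congr e.toEquiv, Cfsg.Agent.S1701.result.2]; norm_num)
  · obtain ⟨e⟩ := MFive.exists_cent_equiv Nat.prime_five (x := (x' : MG)) (y := (x₀ : MG)) hxo
      (by rw [Subgroup.orderOf_coe, hx₀]) hk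
    exact H509.Weak.pCore_equiv e (core_five_zero hx₀ hfr)

end Cfsg.Agent.H451.Weak.M
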