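import Cfsg.Agent.H451.Weak.MLarge
import Cfsg.Agent.H451.Weak.MEleven
import Cfsg.Agent.H451.Weak.MThree
import Cfsg.Agent.H648.Loc.RowM
import Cfsg.Agent.H848.CubeM
import Cfsg.Agent.H898.WkTrans

/-!
# S4095 at the prime 2: the Monster (helper451)

* `factA3` : the centralizers of the elements of odd prime order of the Monster;
* `factB` : the class of the elements of order 13;
* `row` : **the row of S4095 for the Monster and the prime 2**.
-/

set_option autoImplicit false
set_option maxRecDepth 100000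
set_option linter.unusedSectionVars false

namespace Cfsg.Agent.H451.Weak.M

open Cfsg Cfsg.Agent.MonsterX Cfsg.Agent.MonsterX.InstData Cfsg.Agent.MonsterX.MainPack Cfsg.Agent.MonsterU
open Cfsg.Agent.MonsterP Cfsg.Agent.MonsterN Cfsg.Agent.LThreeMB
open Cfsg.Agent.MonsterX.MainBasic Cfsg.Agent.MonsterX.MainSimple Cfsg.Agent.MonsterX.Model
open Cfsg.Agent.MonsterU.Lam2 Cfsg.Agent.MonsterU.TwoCls
open Cfsg.Agent.BpSpor.MBigModel
open Cfsg.Agent.H652.Four Cfsg.Agent.Blocks Cfsg.Agent.Blocks.LocalRing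
open Subgroup (centralizer zpowers mem_centralizer_singleton_iff normalizer mem_normalizer_iff)

universe u

/-- a central involution -/
theorem exists_central {D : Type u} [Group D] [Finite D] (h4 : ¬ 4 ∣ Nat.card D) (h : pCore 2 D ≠ ⊥) :
    ∃ v : D, orderOf v = 2 ∧ ∀ g : D, g * v = v * g := by
  have h2 : Fact (Nat.Prime 2) := ⟨Nat.prime_two⟩
  have hRn : (pCore 2 D).Normal := Lib.Cores.pCore_normal 2
  obtain ⟨k, hk⟩ := IsPGroup.iff_card.1 (Lib.Cores.pCore_isPGroup (G := D) 2)
  have hk1 : k = 1 := by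
    have h1 : k ≠ 0 := by
      rintro rfl
      rw [pow_zero] at hk
      exact h (Subgroup.card_eq_one.1 hk)
    have h3 : k < 2 := by
      by_contra hcon
      apply h4
      refine dvd_trans ?_ (Subgroup.card_subgroup_dvd_card (pCore 2 D))
      rw [hk]
      exact pow_dvd_pow 2 (show 2 ≤ k by omega)
    omega
  rw [hk1, pow_one] at hk
  obtain ⟨v, hv, hv1⟩ := (Subgroup.bot_or_exists_ne_one (pCore 2 D)).resolve_left h
  refine ⟨v, ?_, fun g => ?_⟩
  · have h3 : orderOf (⟨v, hv⟩ : pCore 2 D) ∣ Nat.card (pCore 2 D) := orderOf_dvd_natCard _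
    rw [Subgroup.orderOf_mk, hk] at h3
    rcases (Nat.dvd_prime Nat.prime_two).1 h3 with h5 | h5
    · exact absurd (orderOf_eq_one_iff.1 h5) hv1
    · exact h5
  · have h3 := norm_two hk hv hv1
    have h5 : g ∈ normalizer (pCore 2 D : Set D) := by
      rw [Subgroup.normalizer_eq_top_iff.2 hRn]
      exact Subgroup.mem_top g
    exact mem_centralizer_singleton_iff.1 (h3 h5)

/-- **Order 5, `4 ∤ |C(x)|`.** -/
theorem five_not_four {x : MG} (h4 : ¬ 4 ∣ Nat.card ↥(centralizer ({x} : Set MG)))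
    (h : pCore 2 ↥(centralizer ({x} : Set MG)) ≠ ⊥) : ¬ 5 ^ 9 ∣ Nat.card ↥(centralizer ({x} : Set MG)) := by
  have hfin := finite
  obtain ⟨v, hv, hc⟩ := exists_central h4 h
  have hvo : orderOf (v : MG) = 2 := by rw [Subgroup.orderOf_coe, hv]
  have hle : centralizer ({x} : Set MG) ≤ centralizer ({(v : MG)} : Set MG) := by
    intro g hg
    rw [mem_centralizer_singleton_iff]
    exact congrArg Subtype.val (hc ⟨g, hg⟩)
  intro h5
  have h6 := h5.trans (Subgroup.card_dvd_of_le hle)
  rcases cls hvo with ⟨g, hg⟩ | ht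
  · rw [BpSpor.card_cent_of_conj hg, card_cent_z] at h6
    revert h6
    norm_num
  · rw [card_cent_t ht] at h6
    revert h6
    norm_num

theorem cases_prime {q : ℕ} (hq : q.Prime) (hq2 : q ≠ 2) (hd : q ∣ Nat.card MG) :
    q = 3 ∨ q = 5 ∨ q = 7 ∨ q = 11 ∨ q = 13 ∨ q = 17 ∨ q = 19 ∨ q = 23 ∨ q = 29 ∨ q = 31 ∨ q = 41 ∨ q = 47 ∨
      q = 59 ∨ q = 71 := by
  have h : Nat.card MG = 2 ^ 46 * 3 ^ 20 * 5 ^ 9 * 7 ^ 6 * 11 ^ 2 * 13 ^ 3 * 17 * 19 * 23 * 29 * 31 * 41 * 47 * 59 *
      71 := by rw [card_M]; norm_num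
  rw [h] at hd
  have key : ∀ {r : ℕ}, r.Prime → q ∣ r → q = r := fun hr h => (Nat.prime_dvd_prime_iff_eq hq hr).1 h
  simp only [hq.dvd_mul] at hd
  rcases hd with (((((((((((((h | h) | h) | h) | h) | h) | h) | h) | h) | h) | h) | h) | h) | h) | h
  · exact absurd (key Nat.prime_two (hq.dvd_of_dvd_pow h)) hq2
  · have := key (r := 3) (by norm_num) (hq.dvd_of_dvd_pow h); simp [this]
  · have := key (r := 5) (by norm_num) (hq.dvd_of_dvd_pow h); simp [this]
  · have := key (r := 7) (by norm_num) (hq.dvd_of_dvd_pow h); simp [this]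
  · have := key (r := 11) (by norm_num) (hq.dvd_of_dvd_pow h); simp [this]
  · have := key (r := 13) (by norm_num) (hq.dvd_of_dvd_pow h); simp [this]
  · have := key (r := 17) (by norm_num) h; simp [this]
  · have := key (r := 19) (by norm_num) h; simp [this]
  · have := key (r := 23) (by norm_num) h; simp [this]
  · have := key (r := 29) (by norm_num) h; simp [this]
  · have := key (r := 31) (by norm_num) h; simp [this]
  · have := key (r := 41) (by norm_num) h; simp [this]
  · have := key (r := 47) (by norm_num) h; simp [this]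
  · have := key (r := 59) (by norm_num) h; simp [this]
  · have := key (r := 71) (by norm_num) h; simp [this]

/-- **The first fact.** -/
theorem factA3 : FactA3 MG := by
  have hfin := finite
  have h3 : Fact (Nat.Prime 3) := ⟨Nat.prime_three⟩
  obtain ⟨Q, hQ⟩ := Sylow.exists_subgroup_card_pow_prime (G := MG) 3 (n := 20) (by rw [card_M]; norm_num)
  refine ⟨3 ^ 20, ⟨Q, by rw [hQ]; exact Odd.pow (by decide), hQ.ge⟩, fun w hw hw2 => ?_⟩
  obtain ⟨q, hq⟩ : ∃ q, q = orderOf w := ⟨_, rfl⟩
  rw [← hq] at hw hw2 ⊢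
  rcases cases_prime hw hw2 (hq ▸ orderOf_dvd_natCard w) with h | h | h | h | h | h | h | h | h | h | h | h | h | h <;>
    subst h
  · exact Or.inl (core_three hq.symm)
  · rcases core_five hq.symm with h5 | h5
    · exact Or.inl h5
    · by_cases h6 : pCore 2 ↥(centralizer ({w} : Set MG)) = ⊥
      · exact Or.inl h6
      · exact Or.inr (Or.inr ⟨h5, 9, by rw [card_M]; norm_num, five_not_four h5 h6⟩)
  · exact Or.inl (core_seven hq.symm)
  · exact Or.inl (core_eleven hq.symm)
  · exact Or.inl (core_thirteen hq.symm)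
  · exact Or.inl (core_three_primes (Or.inl rfl) hq.symm)
  · exact Or.inl (core_three_primes (Or.inr (Or.inl rfl)) hq.symm)
  · exact (card_23 hq.symm).imp_right Or.inl
  · exact Or.inl (core_free hq.symm (by norm_num) (by norm_num))
  · exact Or.inl (core_three_primes (Or.inr (Or.inr rfl)) hq.symm)
  · exact Or.inl (core_free hq.symm (by norm_num) (by norm_num))
  · exact (card_47 hq.symm).imp_right Or.inl
  · exact Or.inl (core_free hq.symm (by norm_num) (by norm_num))
  · exact Or.inl (core_free hq.symm (by norm_num) (by norm_num))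

/-- an element of order 13 whose class is not nilpotent modulo 2 -/
theorem nn_thirteen : ∃ x : MG, orderOf x = 13 ∧ ∀ M : Ideal AlgInt, IsPModular 2 M → NN M (cl x) := by
  have A := Cfsg.Agent.MonsterU.Uncond.all
  have := G_finite A.hO
  exact H648.Loc.nn_of_cover (Cfsg.Agent.CTwoTab.MonsterOf.cover_t A
    (Cfsg.Agent.MonsterP.NodesGrp.prel Cfsg.Agent.MonsterU.NodesU.hyp)
    (Cfsg.Agent.MonsterP.NodesNe.ne Cfsg.Agent.MonsterU.NodesU.hyp) Cfsg.Agent.MonsterU.NodesU.conj_ten
    Cfsg.Agent.S1704.result)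

/-- **The second fact.** -/
theorem factB {L : Type u} [Group L] [Finite L] (e : L ≃* MG) : H509.Weak.FactB L := by
  have hfin := finite
  obtain ⟨x, hx, hN⟩ := nn_thirteen
  refine H898.WkTrans.factB_of_equiv e (x := x) ?_ (core_thirteen hx) (fun β => ?_) hN
  · rintro rfl
    rw [orderOf_one] at hx
    norm_num at hx
  · obtain ⟨g, hg⟩ := H848.CubeM.inner_G ((e.symm.trans β).trans e)
    refine isConj_iff.2 ⟨e.symm g, ?_⟩
    apply e.injective
    have h1 := DFunLike.congr_fun hg x
    rw [MulAut.conj_apply] at h1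
    have h2 : e (β (e.symm x)) = g * x * g⁻¹ := h1
    rw [h2, map_mul, map_mul, map_inv, e.apply_symm_apply, e.apply_symm_apply]

/-- **The row of the Monster.** -/
theorem row {L : Type u} [Group L] [Finite L] (h : Cfsg.Spor.IsoM L) (B : Cfsg.Agent.H509.Weak.Base L) :
    Cfsg.Agent.H516.Row 2 L := by
  obtain ⟨e⟩ := h
  obtain ⟨f⟩ := Cfsg.Agent.MonsterP.Equiv.equiv
  exact row_of_facts3 B (FactA3.congr (e.trans f).symm factA3) (factB (e.trans f))

end Cfsg.Agent.H451.Weak.M
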