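import Cfsg.Agent.H451.Weak.MBase
import Cfsg.Agent.CpAutMSeven.Hex
import Cfsg.Agent.CpAutMSeven.ZeroComps

/-!
# S4095 at the prime 2: `O_2(C(x)) = 1` for `x` of order 7 in the Monster (helper451)

* `core_of_XX` : the case of a simple group `C(x)/⟨x⟩`;
* `core_seven`.
-/

set_option autoImplicit false
set_option maxRecDepth 100000

namespace Cfsg.Agent.H451.Weak.M

open Cfsg Cfsg.Agent.MonsterU Cfsg.Agent.LThreeMB
open Cfsg.Agent.MonsterU.Lam2 Cfsg.Agent.MonsterU.TwoCls
open Cfsg.Agent.BpTab Cfsg.Agent.BpSpor.MBigModel Cfsg.Agent.BpSpor.MBig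
open Cfsg.Agent.MonsterX Cfsg.Agent.MonsterX.MainBasic Cfsg.Agent.MonsterX.MainSimple Cfsg.Agent.MonsterX.Model
open Cfsg.Agent.MonsterX.MainPack
open Cfsg.Spor (Co1)
open Subgroup (centralizer zpowers mem_centralizer_singleton_iff)

universe u

/-- `O_2(C(x)) = 1` if `x` is of odd order and `C(x)/⟨x⟩` is simple, of order not a power of 2 -/
theorem core_of_XX {G : Type u} [Group G] [Finite G] {x : G} (hx : Odd (orderOf x)) (hs : IsSimpleGroup (XX x))
    {q : ℕ} (hq : q.Prime) (hq2 : q ≠ 2) (hd : q ∣ Nat.card (XX x)) : pCore 2 ↥(centralizer ({x} : Set G)) = ⊥ := by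
  have h2 : Fact (Nat.Prime 2) := ⟨Nat.prime_two⟩
  set R := pCore 2 ↥(centralizer ({x} : Set G)) with hR
  have hRn : R.Normal := Lib.Cores.pCore_normal 2
  have hRp : IsPGroup 2 R := Lib.Cores.pCore_isPGroup 2
  have h1 : (R.map (QuotientGroup.mk' (Zx x))).Normal := hRn.map _ (QuotientGroup.mk'_surjective _)
  rcases h1.eq_bot_or_eq_top with h | h
  · have hle : R ≤ Zx x := by
      intro r hr
      have h3 := Subgroup.mem_map_of_mem (QuotientGroup.mk' (Zx x)) hr
      rw [h, Subgroup.mem_bot] at h3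
      exact (QuotientGroup.eq_one_iff r).1 h3
    obtain ⟨k, hk⟩ := IsPGroup.iff_card.1 hRp
    have h3 : Nat.card R ∣ orderOf x := by
      refine (Subgroup.card_dvd_of_le hle).trans (dvd_of_eq ?_)
      rw [Zx, Nat.card_zpowers, self, Subgroup.orderOf_mk]
    have h4 : k = 0 := by
      by_contra hk0
      rw [hk] at h3
      exact (Nat.not_even_iff_odd.2 hx) (even_iff_two_dvd.2 ((dvd_pow_self 2 hk0).trans h3))
    rw [h4, pow_zero] at hk
    exact Subgroup.card_eq_one.1 hk
  · exfalso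
    have h3 : IsPGroup 2 (⊤ : Subgroup (XX x)) := by
      rw [← h]
      exact hRp.map _
    obtain ⟨k, hk⟩ := IsPGroup.iff_card.1 h3
    rw [Subgroup.card_top] at hk
    rw [hk] at hd
    exact hq2 ((Nat.prime_dvd_prime_iff_eq hq Nat.prime_two).1 (hq.dvd_of_dvd_pow hd))

/-- reduction to elements of `C(z)` -/
theorem core_of_ev {p : ℕ} {x : MG} (hx : orderOf x = p)
    (h : ∃ g : MG, (g * zz * g⁻¹) * x = x * (g * zz * g⁻¹))
    (hz : ∀ x' : centralizer ({zz} : Set MG), orderOf x' = p → pCore 2 ↥(centralizer ({(x' : MG)} : Set MG)) = ⊥) :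
    pCore 2 ↥(centralizer ({x} : Set MG)) = ⊥ := by
  obtain ⟨g, hg⟩ := h
  have h1 : (g⁻¹ * x * g) * zz = zz * (g⁻¹ * x * g) := by
    calc (g⁻¹ * x * g) * zz = g⁻¹ * (x * (g * zz * g⁻¹)) * g := by group
      _ = g⁻¹ * ((g * zz * g⁻¹) * x) * g := by rw [hg]
      _ = zz * (g⁻¹ * x * g) := by group
  have h2 : MulAut.conj g (g⁻¹ * x * g) = x := by rw [MulAut.conj_apply]; group
  have h3 := hz ⟨g⁻¹ * x * g, mem_centralizer_singleton_iff.2 h1⟩ (by
    rw [Subgroup.orderOf_mk, ← hx, ← h2, MulEquiv.orderOf_eq, h2])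
  have h4 := H509.Weak.pCore_equiv (H509.Weak.centEquiv (MulAut.conj g) (g⁻¹ * x * g)) h3
  rwa [h2] at h4

theorem core_seven_zero {x : centralizer ({zz} : Set MG)} (hx : orderOf x = 7) (hfr : fr (pi x) = 1) :
    pCore 2 ↥(centralizer ({(x : MG)} : Set MG)) = ⊥ := by
  have hfin := finite
  have h := chart
  have hx7 : x ^ 7 = 1 := by rw [← hx, pow_orderOf_eq_one]
  refine core_of_unique (z := zD x) (MFive.orderOf_zD h x) ?_ ?_
  · intro v _ hv2 hvz
    have hvv : v * v = 1 := by rw [← pow_two, ← hv2, pow_orderOf_eq_one]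
    refine (BpRankZero.Seven.only_zD KDone.lft MFive.Row.hc hx7 hfr v hvv hvz).resolve_left ?_
    rintro rfl
    rw [orderOf_one] at hv2
    norm_num at hv2
  · by_contra hcon
    push Not at hcon
    obtain ⟨r, hr, hr6⟩ := BpRankZero.MRow.exists_six
    have h7 := CpAutMSeven.ZeroComps.cube_zero KDone.lft MFive.Row.hc hx hfr hr
      (by rw [hr6]; norm_num) fun y hy hfy => by
        have h1 : fr (KChart.pi MFive.Row.hc y) = 2 ^ 6 :=
          (CpAutMSeven.Ranks.hranks _ (MFive.orderOf_pi h (by norm_num) (by decide) hy)).resolve_left hfy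
        rw [BpRankZero.Seven.card_cent, Subgroup.orderOf_coe, hy, show 7 ^ 4 = 7 ^ 3 * 7 by norm_num]
        refine Nat.mul_dvd_mul_right ?_ 7
        rw [(BpRankZero.MRow.he_facts (CpAutMSeven.ZeroComps.heSix y hy h1)).2]
        norm_num
    refine BpRankZero.Seven.not_dvd_cz h (h7.trans (Subgroup.card_dvd_of_le ?_))
    intro g hg
    rw [mem_centralizer_singleton_iff]
    exact congrArg Subtype.val (hcon ⟨g, hg⟩)

/-- **Order 7.** -/
theorem core_seven {x : MG} (hx : orderOf x = 7) : pCore 2 ↥(centralizer ({x} : Set MG)) = ⊥ := by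
  have hfin := finite
  by_cases ho : Odd (Nat.card ↥(centralizer ({x} : Set MG)))
  · exact core_of_odd ho
  refine core_of_ev hx (CpAutMSeven.Hex.hex hx ho) fun x' hx' => ?_
  rcases CpAutMSeven.Ranks.hranks _ (MFive.orderOf_pi chart (by norm_num) (by decide) hx') with h | h
  · exact core_seven_zero hx' h
  · obtain ⟨h1, h2⟩ := BpRankZero.MRow.he_facts (CpAutMSeven.ZeroComps.heSix x' hx' h)
    exact core_of_XX (by rw [Subgroup.orderOf_coe, hx']; decide) h1 (q := 7) (by norm_num) (by norm_num)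
      (by rw [h2]; norm_num)

end Cfsg.Agent.H451.Weak.M
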