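import Cfsg.Agent.BpSpor.MBigEleven

/-!
# Elementary abelian 2-subgroups of the Monster of order 8 contain elements of the class `2B` (helper451)

* `no_pure` : in the Baby Monster the product of two commuting transpositions is never a transposition;
* `not_pure_t` : an elementary abelian subgroup of order at least 8 of the model contains a conjugate of `z`;
* `exists_zconj` : the same for the concrete model.
-/

set_option autoImplicit false
set_option linter.constructorNameAsVariable false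
set_option maxRecDepth 100000

open Subgroup

namespace Cfsg.Agent.H451.Weak.Pure

open Cfsg Cfsg.Lie Cfsg.Agent.Bimonster Cfsg.Agent.Bimonster.Tits Cfsg.Agent.BabyU
open Cfsg.Agent.MonsterX.KSide Cfsg.Agent.MonsterX.KLift Cfsg.Agent.MonsterX.KModel
open Cfsg.Agent.MonsterX.Model Cfsg.Agent.MonsterX.MainPack Cfsg.Agent.MonsterX.MainSimple
open Cfsg.Agent.MonsterX.MainBasic Cfsg.Agent.MonsterU.Assembly Cfsg.Agent.MonsterN.Lit Cfsg.Agent.MonsterN
open Cfsg.Agent.MonsterN.LitInst Cfsg.Agent.MonsterU.Lam2 Cfsg.Agent.MonsterU.TwoCls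
open Cfsg.Agent.BabyComp Cfsg.Agent.R01.Lifts

section inner

open Cfsg.Agent.BabyU.Clos

variable {G : Type*} [Group G] {P M : Subgroup G} {z t t₁ : G}

/-- **The product of two commuting transpositions is not a transposition.** -/
theorem no_pure (I : Inner ⊤ P M z t t₁) {b : G} (hb : b ∈ cls ⊤ t) (hbt : b * t = t * b) (hne : b ≠ t)
    (htb : t * b ∈ cls ⊤ t) : False := by
  have hbM : b ∉ M := fun h => Uniq.prod_ne I hb h hne htb
  have hbb := Uniq.sq_of_cls I hb
  have hbi : b⁻¹ = b := inv_eq_of_mul_eq_one_left hbb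
  obtain ⟨g, -, hg⟩ := htb
  -- `C(t)` permutes `b`, `t b`
  have key : ∀ c : G, c * t = t * c → c * b * c⁻¹ = t * b ∨ c * b * c⁻¹ = b := by
    intro c hc
    have h1 : t * b * b = t := by rw [mul_assoc, hbb, mul_one]
    -- conjugate by `g⁻¹`
    have e1 : t * (g⁻¹ * b * g) = g⁻¹ * t * g := by
      calc t * (g⁻¹ * b * g) = g⁻¹ * (g * t * g⁻¹ * b) * g := by group
        _ = g⁻¹ * (t * b * b) * g := by rw [hg]
        _ = g⁻¹ * t * g := by rw [h1]
    have e2 : g⁻¹ * (t * b) * g = t := by rw [← hg]; group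
    have hbtb : b * (t * b) = t * b * b := by rw [← mul_assoc, hbt]
    have hcomm : g⁻¹ * b * g * t = t * (g⁻¹ * b * g) := by
      nth_rewrite 1 [← e2]
      rw [e1]
      calc g⁻¹ * b * g * (g⁻¹ * (t * b) * g) = g⁻¹ * (b * (t * b)) * g := by group
        _ = g⁻¹ * t * g := by rw [hbtb, h1]
    have hd := Uniq.cls_conj' hb g
    have hne' : g⁻¹ * b * g ≠ t := by
      intro h
      have h2 : b = t * b := by
        calc b = g * (g⁻¹ * b * g) * g⁻¹ := by group
          _ = g * t * g⁻¹ := by rw [h]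
          _ = t * b := hg
      apply I.t_ne
      have h3 : 1 * b = t * b := by rw [one_mul]; exact h2
      exact (mul_right_cancel h3).symm
    have hdM : g⁻¹ * b * g ∉ M := by
      intro h
      refine Uniq.prod_ne I hd h hne' ?_
      rw [e1]
      exact Uniq.cls_conj' (mem_cls_self ⊤ t) g
    have hct : c * t * c⁻¹ = t := by rw [hc]; group
    have hci : t * c⁻¹ = c⁻¹ * t := by
      calc t * c⁻¹ = c⁻¹ * (c * t) * c⁻¹ := by group
        _ = c⁻¹ * (t * c) * c⁻¹ := by rw [hc]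
        _ = c⁻¹ * t := by group
    have hu := Uniq.uniq I hd hcomm hdM (e := g⁻¹ * (c * b * c⁻¹) * g) (Uniq.cls_conj' (Uniq.cls_conj hb c) g) ?_ ?_
    · rcases hu with h | h
      · left
        calc c * b * c⁻¹ = g * (g⁻¹ * (c * b * c⁻¹) * g) * g⁻¹ := by group
          _ = g * t * g⁻¹ := by rw [h]
          _ = t * b := hg
      · right
        calc c * b * c⁻¹ = g * (g⁻¹ * (c * b * c⁻¹) * g) * g⁻¹ := by group
          _ = g * (g⁻¹ * b * g) * g⁻¹ := by rw [h]
          _ = b := by group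
    · rw [e1]
      calc g⁻¹ * (c * b * c⁻¹) * g * (g⁻¹ * t * g) = g⁻¹ * (c * b * (c⁻¹ * t)) * g := by group
        _ = g⁻¹ * (c * (b * t) * c⁻¹) * g := by rw [← hci]; group
        _ = g⁻¹ * ((c * t) * b * c⁻¹) * g := by rw [hbt]; group
        _ = g⁻¹ * t * g * (g⁻¹ * (c * b * c⁻¹) * g) := by rw [hc]; group
    · rw [e1]
      have h2 : g⁻¹ * (c * b * c⁻¹) * g * (g⁻¹ * t * g) = g⁻¹ * (c * (t * b) * c⁻¹) * g := by
        calc g⁻¹ * (c * b * c⁻¹) * g * (g⁻¹ * t * g) = g⁻¹ * (c * b * (c⁻¹ * t)) * g := by group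
          _ = g⁻¹ * (c * (b * t) * c⁻¹) * g := by rw [← hci]; group
          _ = _ := by rw [hbt]
      rw [h2]
      exact Uniq.cls_conj' (Uniq.cls_conj ⟨g, mem_top _, hg⟩ c) g
  -- transpositions commuting with `t` commute with `b`
  have hcb : ∀ s ∈ cls ⊤ t, s * t = t * s → b * s = s * b := by
    intro s hs hst
    have hss := Uniq.sq_of_cls I hs
    have hsi : s⁻¹ = s := inv_eq_of_mul_eq_one_left hss
    rcases key s hst with h | h
    · exfalso
      obtain ⟨k, -, hk⟩ := hb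
      rw [hsi] at h
      have e1 : k⁻¹ * s * k * t * (k⁻¹ * s * k) = k⁻¹ * (t * b) * k := by
        calc k⁻¹ * s * k * t * (k⁻¹ * s * k) = k⁻¹ * (s * (k * t * k⁻¹) * s) * k := by group
          _ = k⁻¹ * (t * b) * k := by rw [hk, h]
      have e2 : k⁻¹ * (t * b) * k * t = t * (k⁻¹ * (t * b) * k) := by
        have h5 : t * b * b = b * (t * b) := by rw [← mul_assoc, hbt]
        calc k⁻¹ * (t * b) * k * t = k⁻¹ * (t * b * (k * t * k⁻¹)) * k := by group
          _ = k⁻¹ * (b * (t * b)) * k := by rw [hk, h5]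
          _ = k⁻¹ * ((k * t * k⁻¹) * (t * b)) * k := by rw [hk]
          _ = _ := by group
      have hne' : k⁻¹ * (t * b) * k ≠ t := by
        intro h6
        apply I.t_ne
        have h7 : t * b = 1 * b := by
          calc t * b = k * (k⁻¹ * (t * b) * k) * k⁻¹ := by group
            _ = k * t * k⁻¹ := by rw [h6]
            _ = 1 * b := by rw [hk, one_mul]
        exact mul_right_cancel h7
      have h4 := I.fourB _ (Uniq.cls_conj' hs k) (by rw [e1]; exact e2) (by rw [e1]; exact hne')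
      rw [e1] at h4
      refine Uniq.prod_ne I (Uniq.cls_conj' ⟨g, mem_top _, hg⟩ k) h4 hne' ?_
      have e3 : t * (k⁻¹ * (t * b) * k) = k⁻¹ * t * k := by
        have h5 : b * (t * b) = t := by rw [← mul_assoc, hbt, mul_assoc, hbb, mul_one]
        calc t * (k⁻¹ * (t * b) * k) = k⁻¹ * ((k * t * k⁻¹) * (t * b)) * k := by group
          _ = k⁻¹ * t * k := by rw [hk, h5]
      rw [e3]
      exact Uniq.cls_conj' (mem_cls_self ⊤ t) k
    · exact (mul_inv_eq_iff_eq_mul.1 h).symm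
  -- `b` commutes with `z`
  obtain ⟨q, hqP, hq⟩ := I.fuse
  have htz : t * z = z * t := I.zc t I.tP
  have h1 : b * (t * z) = t * z * b := hcb _ ⟨q, mem_top _, hq⟩ (by
    calc t * z * t = t * (z * t) := by group
      _ = t * (t * z) := by rw [htz])
  have h2 : b * z = z * b := by
    have h3 : t * (b * z) = t * (z * b) := by
      calc t * (b * z) = (t * b) * z := by group
        _ = b * (t * z) := by rw [← hbt]; group
        _ = t * (z * b) := by rw [h1]; group
    exact mul_left_cancel h3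
  have h3 := I.perp b (mem_top _) h2 hbt fun d hd _ hdt => hcb d hd hdt
  exact hbM (I.PM b h3 hbt)

end inner

/-- **The same in the presented Baby Monster.** -/
theorem no_pure_B {t b : Spor.BabyMonster}
    (ht : IsConj t (PresentedGroup.of Spor.BabyMonster.Gen.t1 : Spor.BabyMonster)) (hb : IsConj t b)
    (hbt : b * t = t * b) (hne : b ≠ t) : ¬ IsConj t (t * b) := by
  intro htb
  obtain ⟨f, P, M₁, z, τ, τ₁, I, ⟨g, hg⟩, hex⟩ := BabyU.ModelInst.model.iso
  obtain ⟨c, hc⟩ := isConj_iff.1 ht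
  let e := f.trans (MulAut.conj (g⁻¹ * f c))
  have he : e t = τ := by
    show (g⁻¹ * f c) * f t * (g⁻¹ * f c)⁻¹ = τ
    have h1 : f c * f t * (f c)⁻¹ = g * τ * g⁻¹ := by rw [← hg, ← hc, map_mul, map_mul, map_inv]
    calc (g⁻¹ * f c) * f t * (g⁻¹ * f c)⁻¹ = g⁻¹ * (f c * f t * (f c)⁻¹) * g := by group
      _ = τ := by rw [h1]; group
  have hcls : ∀ s, IsConj t s → e s ∈ BabyU.Clos.cls ⊤ τ := by
    intro s h
    obtain ⟨c, hc⟩ := isConj_iff.1 h
    refine ⟨e c, mem_top _, ?_⟩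
    have h1 := congrArg e hc
    rwa [map_mul, map_mul, map_inv, he] at h1
  refine no_pure I (hcls b hb) ?_ ?_ ?_
  · rw [← he, ← map_mul, ← map_mul, hbt]
  · intro h
    exact hne (e.injective (by rw [h, he]))
  · have h1 := hcls _ htb
    rwa [map_mul, he] at h1

variable {V P W : Type} [AddCommGroup V] [Module ℚ V] [Group P] [AddCommGroup W] [Module ℚ W]
  {D : MData V} {M : KS ↥D.G V P W} {x₀ : P} {θ : leechLattice → P} {K₀ : Type} [Group K₀]

/-- **`f₁` is a transposition modulo `t`.** -/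
theorem exists_q (A : All D K₀) (H : Link D M x₀) (L : Lift M θ) {y : ℕ → D.G} (hP : PRel y) (hne : y 0 ≠ y 1)
    (hy : ∃ g : D.G, g * tG A.hG A.hR * g⁻¹ = y 10) {f₁ f₂ f₃ f₄ : BB M x₀}
    (Fc : FusionType.Facts (tb M x₀) f₁ f₂ f₃ f₄)
    (hcz : ∀ h, IsConj (tb M x₀ * (f₁ * f₂)) (⟨M.z, h⟩ : BB M x₀))
    (hcd : IsConj M.z ((f₁ * f₂ * f₃ : BB M x₀) : D.G)) :
    ∃ q : BB M x₀ →* Spor.BabyMonster, Ext q (tb M x₀) ∧
      IsConj (q f₁) (PresentedGroup.of Spor.BabyMonster.Gen.t1 : Spor.BabyMonster) := by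
  have hfin : Finite D.G := G_finite A.hO
  have hfB : Finite Spor.BabyMonster := Nat.finite_of_card_ne_zero (by rw [BM.KHAll.card_B]; norm_num)
  obtain ⟨⟨h1, h2, h3⟩, h43⟩ := ModelB.fieldsKS A H L hP hne hy Cfsg.Agent.S1704.result H.x₀_mem
  have hzm : M.z ∈ BB M x₀ := mem_centralizer_singleton_iff.2 (by
    show M.ι M.zc * M.ι x₀ = M.ι x₀ * M.ι M.zc
    rw [← map_mul, ← map_mul, M.zc_comm])
  have hE : Emb (BB M x₀).subtype M.z (tb M x₀) f₁ f₂ f₃ :=
    ⟨Subtype.val_injective, nineteen H A, ((BB M x₀).subtype.map_isConj (hcz hzm)).symm, hcd⟩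
  obtain ⟨q, hq⟩ := NodesLit.exists_ext h1 h3 Fc.cen Fc.t_ne
  obtain ⟨yB, hyB, h10, hπ, -⟩ := LiftB.exists_pre_of_perfect fi_facts hq h2
  have hy4 : q (yB 4) = PresentedGroup.of Spor.BabyMonster.Gen.t1 := hπ .t1
  have hcard : Nat.card (centralizer ({PresentedGroup.of Spor.BabyMonster.Gen.t1} : Set Spor.BabyMonster)) =
    306129918735099415756800 := BM.KHAll.card_cent .t1
  have hne1 : q (yB 4) ≠ 1 := by
    intro e
    have h3 : centralizer ({1} : Set Spor.BabyMonster) = ⊤ := by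
      rw [eq_top_iff]
      intro x _
      rw [mem_centralizer_singleton_iff, mul_one, one_mul]
    rw [← hy4, e, h3, card_top, BM.KHAll.card_B] at hcard
    norm_num at hcard
  have hf : IsConj f₁ (yB 4) := by
    refine conj_of_nineteen Fc hE (hyB.sq 4 (by norm_num) (by norm_num)) ?_ ?_ ?_
    · intro e; exact hne1 (by rw [e, map_one])
    · intro e; exact hne1 (by rw [e, hq.mapz])
    · refine BpSpor.MBigPure.nineteen_dvd hq ?_
      rw [hy4, hcard]
      norm_num
  refine ⟨q, hq, ?_⟩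
  rw [← hy4]
  exact q.map_isConj hf

/-- **An involution `a` commuting with `t = ι x₀`, `a` and `t a` conjugate to `t`: the image of `a` in the Baby Monster
is a transposition.** -/
theorem exists_map (A : All D K₀) (H : Link D M x₀) (L : Lift M θ) {τ : D.G} {y' : P}
    (T : Cfsg.Agent.MonsterU.InvTwo.TauHyp M θ ⊤ τ y') {y : ℕ → D.G} (hP : PRel y) (hne : y 0 ≠ y 1)
    (hy : ∃ g : D.G, g * tG A.hG A.hR * g⁻¹ = y 10) : ∃ q : BB M x₀ →* Spor.BabyMonster, Ext q (tb M x₀) ∧
      ∀ w : BB M x₀, w * w = 1 → w ≠ 1 → w ≠ tb M x₀ → IsConj (M.ι x₀) (w : D.G) →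
        IsConj (M.ι x₀) (M.ι x₀ * (w : D.G)) →
        IsConj (q w) (PresentedGroup.of Spor.BabyMonster.Gen.t1 : Spor.BabyMonster) := by
  obtain ⟨f₁, f₂, f₃, f₄, Fc, hcz, hcd, -⟩ := FusInst.exists_facts A H L T H.x₀_mem
  obtain ⟨q, hq, hB⟩ := exists_q A H L hP hne hy Fc hcz hcd
  refine ⟨q, hq, fun w hw hw1 hwt hc hct => ?_⟩
  exact (q.map_isConj (BpSpor.MBigPure.type_a A H L Fc hcz hcd hw hw1 hwt hc hct).symm).trans hB

/-- **No elementary abelian subgroup of order 8 all of whose involutions are conjugate to `ι x₀`.** -/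
theorem not_pure_t (A : All D K₀) (H : Link D M x₀) (L : Lift M θ) {τ : D.G} {y' : P}
    (T : Cfsg.Agent.MonsterU.InvTwo.TauHyp M θ ⊤ τ y') {y : ℕ → D.G} (hP : PRel y) (hne : y 0 ≠ y 1)
    (hy : ∃ g : D.G, g * tG A.hG A.hR * g⁻¹ = y 10) (E : Subgroup D.G) (hE : ∀ a ∈ E, a * a = 1)
    (hc : 8 ≤ Nat.card ↥E) (ht : M.ι x₀ ∈ E) : ∃ w ∈ E, w ≠ 1 ∧ ¬ IsConj (M.ι x₀) w := by
  by_contra hcon
  push Not at hcon
  obtain ⟨q, hq, hqq⟩ := exists_map A H L T hP hne hy
  set t := M.ι x₀ with ht'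
  have htt : t * t = 1 := hE t ht
  -- `E` is abelian
  have hab : ∀ a ∈ E, ∀ b ∈ E, a * b = b * a := by
    intro a ha b hb
    have h1 := hE _ (mul_mem ha hb)
    have h2 : a * b = (a * b)⁻¹ := eq_inv_of_mul_eq_one_left h1
    have ha' : a⁻¹ = a := inv_eq_of_mul_eq_one_left (hE a ha)
    have hb' : b⁻¹ = b := inv_eq_of_mul_eq_one_left (hE b hb)
    rw [mul_inv_rev, ha', hb'] at h2
    exact h2
  obtain ⟨a, haE, ha⟩ := BpSpor.MBigPure.exists_notMem E [1, t] (by simp only [List.length]; omega)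
  obtain ⟨b, hbE, hb⟩ := BpSpor.MBigPure.exists_notMem E [1, t, a, t * a] (by simp only [List.length]; omega)
  simp only [List.mem_cons, List.not_mem_nil, or_false, not_or] at ha hb
  -- lift to `C(t)`
  have hm : ∀ w ∈ E, w ∈ BB M x₀ := fun w hw => mem_centralizer_singleton_iff.2 (hab w hw t ht)
  have key : ∀ (w : D.G) (hw : w ∈ E), w ≠ 1 → w ≠ t →
      IsConj (q ⟨w, hm w hw⟩) (PresentedGroup.of Spor.BabyMonster.Gen.t1 : Spor.BabyMonster) := by
    intro w hw hw1 hwt
    refine hqq ⟨w, hm w hw⟩ (Subtype.ext (hE w hw)) ?_ ?_ (hcon w hw hw1) (hcon _ (mul_mem ht hw) ?_)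
    · intro h; exact hw1 (congrArg Subtype.val h)
    · intro h; exact hwt (congrArg Subtype.val h)
    · intro h
      apply hwt
      calc w = t * t * w := by rw [htt, one_mul]
        _ = t * (t * w) := by group
        _ = t := by rw [h, mul_one]
  have hab1 : a * b ≠ 1 := by
    intro h
    apply hb.2.2.1
    calc b = a * a * b := by rw [hE a haE, one_mul]
      _ = a * (a * b) := by group
      _ = a := by rw [h, mul_one]
  have habt : a * b ≠ t := by
    intro h
    apply hb.2.2.2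
    calc b = a * a * b := by rw [hE a haE, one_mul]
      _ = a * (a * b) := by group
      _ = t * a := by rw [h, hab a haE t ht]
  have ka := key a haE ha.1 ha.2
  have kb := key b hbE hb.1 hb.2.1
  have kab := key (a * b) (mul_mem haE hbE) hab1 habt
  have hmul : q ⟨a * b, hm _ (mul_mem haE hbE)⟩ = q ⟨a, hm a haE⟩ * q ⟨b, hm b hbE⟩ := by
    rw [← map_mul]
    rfl
  refine no_pure_B ka (ka.trans kb.symm) ?_ ?_ (ka.trans (hmul ▸ kab).symm)
  · rw [← map_mul, ← map_mul]
    congr 1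
    exact Subtype.ext (hab b hbE a haE)
  · intro h
    have h1 : q (⟨a, hm a haE⟩ * ⟨b, hm b hbE⟩) = 1 := by
      rw [map_mul, h, ← map_mul]
      have h5 : (⟨a, hm a haE⟩ : BB M x₀) * ⟨a, hm a haE⟩ = 1 := Subtype.ext (hE a haE)
      rw [h5, map_one]
    rcases (hq.ker _).1 h1 with h4 | h4
    · exact hab1 (congrArg Subtype.val h4)
    · exact habt (congrArg Subtype.val h4)

end Cfsg.Agent.H451.Weak.Pure

namespace Cfsg.Agent.H451.Weak.M

open Cfsg Cfsg.Agent.MonsterX Cfsg.Agent.MonsterX.InstData Cfsg.Agent.MonsterX.MainPack Cfsg.Agent.MonsterU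
open Cfsg.Agent.MonsterP Cfsg.Agent.MonsterN Cfsg.Agent.LThreeMB
open Cfsg.Agent.MonsterX.MainBasic Cfsg.Agent.MonsterX.MainSimple Cfsg.Agent.MonsterX.Model
open Cfsg.Agent.MonsterU.Lam2 Cfsg.Agent.MonsterU.TwoCls
open Cfsg.Agent.BpTab Cfsg.Agent.BpSpor.MBigModel
open Subgroup (centralizer zpowers mem_centralizer_singleton_iff)

/-- **A conjugate of `z` in an elementary abelian subgroup of order at least 8.** -/
theorem exists_zconj (E : Subgroup MG) (hE : ∀ a ∈ E, a * a = 1) (hc : 8 ≤ Nat.card ↥E) :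
    ∃ w ∈ E, ∃ g : MG, g * zz * g⁻¹ = w := by
  have hfin := finite
  have ho : ∀ w ∈ E, w ≠ 1 → orderOf w = 2 := by
    intro w hw hw1
    have : Fact (Nat.Prime 2) := ⟨Nat.prime_two⟩
    exact orderOf_eq_prime (by rw [pow_two, hE w hw]) hw1
  obtain ⟨u, hu, hu1⟩ := BpSpor.MBigPure.exists_notMem E [1] (by simp only [List.length]; omega)
  simp only [List.mem_cons, List.not_mem_nil, or_false] at hu1
  rcases cls (ho u hu hu1) with h | h
  · exact ⟨u, hu, h⟩
  · have h2 : IsConj (tG LitFin.all.hG LitFin.all.hR) _ := LThreeB.Par.ta_iota LitFin.all KDone.lnk KDone.lft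
    have h1 : IsConj (tG LitFin.all.hG LitFin.all.hR) u := h
    obtain ⟨c, hcu⟩ := isConj_iff.1 (h1.symm.trans h2)
    let E' : Subgroup MG := E.map (MulAut.conj c).toMonoidHom
    have hE' : ∀ a ∈ E', a * a = 1 := by
      rintro _ ⟨a, ha, rfl⟩
      rw [← map_mul, hE a ha, map_one]
    have hc' : 8 ≤ Nat.card ↥E' := by
      rw [Subgroup.card_map_of_injective (MulAut.conj c).injective]
      exact hc
    obtain ⟨w, ⟨v, hv, rfl⟩, hw1, hw⟩ := Pure.not_pure_t LitFin.all KDone.lnk KDone.lft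
      (TauInst.tauHyp (Final.cent InstanceFinal.mOrbit Instance.mTrans)) (NodesGrp.prel LitFin.H)
      (NodesNe.ne LitFin.H) LitFin.conj_ten E' hE' hc' ⟨u, hu, hcu⟩
    refine ⟨v, hv, ?_⟩
    have hv1 : v ≠ 1 := by
      rintro rfl
      exact hw1 (map_one _)
    rcases cls (ho v hv hv1) with h3 | h3
    · exact h3
    · exfalso
      apply hw
      have h4 : IsConj (tG LitFin.all.hG LitFin.all.hR) v := h3
      exact h2.symm.trans (h4.trans (isConj_iff.2 ⟨c, rfl⟩))

end Cfsg.Agent.H451.Weak.M
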