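import Cfsg.Agent.H509.WeakBlock
import Cfsg.Agent.BpSpor.MBigTool
import Cfsg.Agent.Lib.NormalAbelian
import Cfsg.Agent.SylowL5.TypeAGen

/-!
# S4095 at the prime 2: tools for the Monster (helper451)

* `exists_comm` : a nontrivial normal 2-subgroup contains an involution commuting with a given involution;
* `core_of_unique` : `O_2(D) = 1` if `z` is the only involution of `O_2(D)` commuting with `z` and `z ∉ Z(D)`;
* `core_of_odd` : `O_2(D) = 1` if `|D|` is odd;
* `Wk.not_zpowers_of_not_four` : **no `w` of odd prime order `q` with `4 ∤ |C_L(w)|` and `|C_L(w)|_q ≠ |L|_q` is a power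
  of `a`**;
* `FactA3`, `row_of_facts3` : the row from the corresponding weaker form of `FactA`, and `FactB`;
* `FactA3.congr`, `FactB.congr_cl`.
-/

set_option autoImplicit false
set_option linter.unusedSectionVars false

namespace Cfsg.Agent.H451.Weak

open Subgroup Cfsg Cfsg.Agent.H516 Cfsg.Agent.H509.Weak
open Cfsg.Agent.BpSpor.MBig (omegaZ)

universe u v

section core

variable {D : Type u} [Group D] [Finite D]

theorem exists_comm {R : Subgroup D} (hRn : R.Normal) (hR : IsPGroup 2 R) (hR1 : R ≠ ⊥) {z : D} (hz : orderOf z = 2) :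
    ∃ v ∈ R, orderOf v = 2 ∧ v * z = z * v := by
  have h2 : Fact (Nat.Prime 2) := ⟨Nat.prime_two⟩
  have hzp : IsPGroup 2 (zpowers z) :=
    IsPGroup.of_card (n := 1) (by rw [Nat.card_zpowers, hz, pow_one])
  have hP : IsPGroup 2 (R ⊔ zpowers z : Subgroup D) := hR.to_sup_of_normal_left hzp
  set P : Subgroup D := R ⊔ zpowers z with hPdef
  have hRP : R ≤ P := le_sup_left
  have hzP : z ∈ P := (le_sup_right : zpowers z ≤ P) (mem_zpowers z)
  have hnil : Group.IsNilpotent P := hP.isNilpotent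
  have hn : (R.subgroupOf P).Normal := hRn.subgroupOf P
  have hne : R.subgroupOf P ≠ ⊥ := by
    intro h
    rw [subgroupOf_eq_bot, disjoint_iff, inf_eq_left.2 hRP] at h
    exact hR1 h
  have h1 := Cfsg.Agent.Lib.NormalAbelian.normal_inf_center_ne_bot (R.subgroupOf P) hne
  obtain ⟨c, hc, hc1⟩ := (bot_or_exists_ne_one _).resolve_left h1
  obtain ⟨hcR, hcZ⟩ := mem_inf.1 hc
  -- a power of order 2
  have hcP : IsPGroup 2 (zpowers c) := hP.to_subgroup _
  have hd : 2 ∣ orderOf c := by
    obtain ⟨k, hk⟩ := IsPGroup.iff_card.1 hcP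
    rw [Nat.card_zpowers] at hk
    rw [hk]
    refine dvd_pow_self 2 ?_
    rintro rfl
    rw [pow_zero, orderOf_eq_one_iff] at hk
    exact hc1 hk
  have hco := orderOf_pos c
  have ho : orderOf (c ^ (orderOf c / 2)) = 2 := by
    rw [orderOf_pow_of_dvd (by have := Nat.le_of_dvd hco hd; omega) (Nat.div_dvd_of_dvd hd)]
    exact Nat.div_div_self hd hco.ne'
  refine ⟨((c ^ (orderOf c / 2) : P) : D), ?_, by rw [Subgroup.orderOf_coe, ho], ?_⟩
  · exact mem_subgroupOf.1 (pow_mem hcR _)
  · have h3 := mem_center_iff.1 (pow_mem hcZ (orderOf c / 2)) ⟨z, hzP⟩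
    exact (congrArg Subtype.val h3).symm

/-- `O_2(D) = 1` if `z` is the only involution of `O_2(D)` commuting with `z` and `z` is not central. -/
theorem core_of_unique {z : D} (hz : orderOf z = 2)
    (hu : ∀ v ∈ pCore 2 D, orderOf v = 2 → v * z = z * v → v = z) (hc : ∃ g : D, g * z ≠ z * g) : pCore 2 D = ⊥ := by
  by_contra hcon
  have hRn : (pCore 2 D).Normal := Lib.Cores.pCore_normal 2
  have hR : IsPGroup 2 (pCore 2 D) := Lib.Cores.pCore_isPGroup 2
  obtain ⟨v, hv, hv2, hvz⟩ := exists_comm hRn hR hcon hz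
  have hzR : z ∈ pCore 2 D := by rw [← hu v hv hv2 hvz]; exact hv
  obtain ⟨t, ht, ht2⟩ := BpSpor.MBig.exists_omegaZ hR hcon
  have htz : t = z := hu t ht.1 ht2 (ht.2.2 z hzR)
  rw [htz] at ht
  obtain ⟨g, hg⟩ := hc
  apply hg
  have h1 : g * z * g⁻¹ ∈ pCore 2 D := hRn.conj_mem z hzR g
  have h2 : orderOf (g * z * g⁻¹) = 2 := by
    rw [← MulAut.conj_apply, MulEquiv.orderOf_eq, hz]
  have h3 := hu _ h1 h2 (ht.2.2 _ h1).symm
  exact mul_inv_eq_iff_eq_mul.1 h3

theorem core_of_odd (h : Odd (Nat.card D)) : pCore 2 D = ⊥ := by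
  have h2 : Fact (Nat.Prime 2) := ⟨Nat.prime_two⟩
  have hR : IsPGroup 2 (pCore 2 D) := Lib.Cores.pCore_isPGroup 2
  obtain ⟨k, hk⟩ := IsPGroup.iff_card.1 hR
  have h1 : Nat.card (pCore 2 D) ∣ Nat.card D := card_subgroup_dvd_card _
  rw [hk] at h1
  have h3 : k = 0 := by
    by_contra hk0
    exact (Nat.not_even_iff_odd.2 h) (even_iff_two_dvd.2 ((dvd_pow_self 2 hk0).trans h1))
  rw [h3, pow_zero] at hk
  exact card_eq_one.1 hk

/-- a nontrivial core contains a nontrivial elementary abelian normal subgroup -/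
theorem exists_of_core (h : pCore 2 D ≠ ⊥) : ∃ V : Subgroup D, V.Normal ∧ (∀ v ∈ V, v * v = 1) ∧ V ≠ ⊥ := by
  have hRn : (pCore 2 D).Normal := Lib.Cores.pCore_normal 2
  have hR : IsPGroup 2 (pCore 2 D) := Lib.Cores.pCore_isPGroup 2
  refine ⟨omegaZ (pCore 2 D), ?_, fun v hv => hv.2.1, ?_⟩
  · rw [← normalizer_eq_top_iff] at hRn ⊢
    rw [eq_top_iff, ← hRn]
    exact BpSpor.MBig.norm_omegaZ _
  · obtain ⟨t, ht, ht2⟩ := BpSpor.MBig.exists_omegaZ hR h
    intro h1
    rw [h1, mem_bot] at ht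
    rw [ht, orderOf_one] at ht2
    norm_num at ht2

/-! ### Groups of order not divisible by 4 -/

/-- the normal 2-complement has index at most 2 -/
theorem index_core_le (h : ¬ 4 ∣ Nat.card D) : (pPrimeCore 2 D).index ≤ 2 := by
  have h2 : Fact (Nat.Prime 2) := ⟨Nat.prime_two⟩
  have hn : HasNormalPComplement 2 D := by
    obtain ⟨P⟩ : Nonempty (Sylow 2 D) := inferInstance
    have hP : Nat.card P ≤ 2 := by
      obtain ⟨k, hk⟩ := IsPGroup.iff_card.1 P.2
      by_contra hcon
      have hk2 : 2 ≤ k := by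
        by_contra h3
        have h4 : k ≤ 1 := by omega
        have h5 : 2 ^ k ≤ 2 ^ 1 := Nat.pow_le_pow_right (by norm_num) h4
        omega
      apply h
      refine dvd_trans ?_ (Subgroup.card_subgroup_dvd_card (P : Subgroup D))
      rw [hk]
      exact pow_dvd_pow 2 hk2
    refine Transfer.FrobeniusFusion.hasNormalPComplement_of_controls_fusion P ?_
    rintro x hx y hy ⟨g, hg⟩
    refine ⟨1, one_mem _, ?_⟩
    have h3 : x = y := by
      by_contra hxy
      by_cases hx1 : x = 1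
      · apply hxy
        rw [← hg, hx1]; group
      · have hy1 : y ≠ 1 := by
          rintro rfl
          apply hx1
          have : x = g⁻¹ * (g * x * g⁻¹) * g := by group
          rw [this, hg]; group
        have h4 : ({1, x, y} : Set D) ⊆ (P : Subgroup D) := by
          rintro w (rfl | rfl | rfl)
          · exact one_mem _
          · exact hx
          · exact hy
        have h5 : ({1, x, y} : Set D).ncard = 3 :=
          Set.ncard_eq_three.2 ⟨1, x, y, fun h => hx1 h.symm, fun h => hy1 h.symm, hxy, rfl⟩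
        have h6 := Set.ncard_le_ncard h4 (Set.toFinite _)
        rw [h5] at h6
        have h7 : ((P : Subgroup D) : Set D).ncard = Nat.card P := rfl
        omega
    rw [h3]; group
  obtain ⟨N, hN, hc, hp⟩ := Transfer.NormalPComplement.hasNormalPComplement_iff.1 hn
  have hle : N ≤ pPrimeCore 2 D := Lib.Cores.le_pPrimeCore hN hc
  have h3 : N.index ≤ 2 := by
    obtain ⟨k, hk⟩ := IsPGroup.iff_card.1 hp
    rw [← index_eq_card] at hk
    by_contra hcon
    have hk2 : 2 ≤ k := by
      by_contra h3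
      have h4 : k ≤ 1 := by omega
      have h5 : 2 ^ k ≤ 2 ^ 1 := Nat.pow_le_pow_right (by norm_num) h4
      omega
    apply h
    refine dvd_trans ?_ N.index_dvd_card
    rw [hk]
    exact pow_dvd_pow 2 hk2
  have h4 : (pPrimeCore 2 D).index ≤ N.index := Nat.le_of_dvd (Nat.pos_of_ne_zero (by
    have := N.index_ne_zero_of_finite
    exact this)) (index_dvd_of_le hle)
  omega

theorem mem_core_iff (h : ¬ 4 ∣ Nat.card D) {x y : D} (hxy : x ∈ pPrimeCore 2 D ↔ y ∈ pPrimeCore 2 D) :
    x⁻¹ * y ∈ pPrimeCore 2 D := by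
  have h1 := index_core_le h
  have h0 := (pPrimeCore 2 D).index_ne_zero_of_finite
  have h2 : (pPrimeCore 2 D).index = 1 ∨ (pPrimeCore 2 D).index = 2 := by omega
  rcases h2 with h3 | h3
  · rw [index_eq_one.1 h3]
    exact mem_top _
  · rw [mul_mem_iff_of_index_two h3, inv_mem_iff]
    exact hxy

theorem aut_core (h : ¬ 4 ∣ Nat.card D) (β : MulAut D) (s : D) : (β s)⁻¹ * s ∈ pPrimeCore 2 D := by
  refine mem_core_iff h ?_
  have h1 : (pPrimeCore 2 D).map β.toMonoidHom = pPrimeCore 2 D := Lib.Cores.map_equiv_pPrimeCore β 2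
  constructor
  · intro h2
    rw [← h1] at h2
    obtain ⟨t, ht, hts⟩ := h2
    rwa [← β.injective hts]
  · intro h2
    rw [← h1]
    exact ⟨s, h2, rfl⟩

theorem odd_of_mem_core {s : D} (hs : s ∈ pPrimeCore 2 D) : Odd (orderOf s) := by
  have h1 := Lib.Cores.pPrimeCore_coprime (G := D) 2
  have h2 : Odd (Nat.card (pPrimeCore 2 D)) := Nat.coprime_two_right.1 h1
  refine h2.of_dvd_nat ?_
  rw [← Subgroup.orderOf_mk s hs]
  exact orderOf_dvd_natCard _

end core

section wk

variable {L : Type u} [Group L] [Finite L] {a : MulAut L}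

theorem fix_of_sub (W : Wk a) {X : Subgroup L} {s : L} (hs : (a s)⁻¹ * s ∈ X)
    (hc : (⟨(a s)⁻¹ * s, hs⟩ : X) ∈ pPrimeCore 2 X) : a s = s := by
  apply W.fix_of_odd
  have h1 := odd_of_mem_core hc
  rwa [Subgroup.orderOf_mk] at h1

/-- an invariant subgroup of order not divisible by 4 is fixed -/
theorem le_of_not_four (W : Wk a) {X : Subgroup L} (hX : X.map a.toMonoidHom = X) (h4 : ¬ 4 ∣ Nat.card X) :
    X ≤ fixedSubgroup a := by
  intro s hs
  have h1 := aut_core h4 (resAut a X hX) ⟨s, hs⟩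
  have h2 : (a s)⁻¹ * s ∈ X := ((resAut a X hX ⟨s, hs⟩)⁻¹ * (⟨s, hs⟩ : X) : X).2
  exact fix_of_sub W h2 h1

theorem cent_map {y : L} (hy : a y = y) :
    (centralizer ({y} : Set L)).map a.toMonoidHom = centralizer ({y} : Set L) := by
  apply map_eq_of_forall
  intro s hs
  rw [mem_centralizer_singleton_iff] at hs ⊢
  nth_rewrite 1 [← hy]
  rw [← map_mul, hs, map_mul, hy]

theorem cent_le_of_not_four (W : Wk a) {y : L} (hy : a y = y) (h4 : ¬ 4 ∣ Nat.card (centralizer ({y} : Set L))) :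
    centralizer ({y} : Set L) ≤ fixedSubgroup a := le_of_not_four W (cent_map hy) h4

/-- an element of odd order normalising a fixed subgroup `X` of order not divisible by 4, `C(X) ≤ X`, is fixed -/
theorem fix_of_norm (W : Wk a) {X : Subgroup L} (hX : X ≤ fixedSubgroup a) (h4 : ¬ 4 ∣ Nat.card X)
    (hc : centralizer (X : Set L) ≤ X) {g : L} (hg : Odd (orderOf g)) (hgX : X.map (MulAut.conj g).toMonoidHom = X) :
    a g = g := by
  -- powers of `g`
  have hgk : ∀ k : ℕ, X.map (MulAut.conj (g ^ k)).toMonoidHom = X := by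
    intro k
    apply map_eq_of_forall
    induction k with
    | zero => intro s hs; simpa using hs
    | succ k ih =>
      intro s hs
      have h1 : MulAut.conj (g ^ (k + 1)) s = MulAut.conj g (MulAut.conj (g ^ k) s) := by
        rw [pow_succ', map_mul]; rfl
      rw [h1]
      have h2 := mem_map_of_mem (MulAut.conj g).toMonoidHom (ih s hs)
      rw [hgX] at h2
      exact h2
  have hmem : ∀ k : ℕ, (a (g ^ k))⁻¹ * g ^ k ∈ X := by
    intro k
    apply hc
    rw [mem_centralizer_iff]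
    intro s hs
    have h1 : MulAut.conj (g ^ k) s ∈ X := by
      have h2 := mem_map_of_mem (MulAut.conj (g ^ k)).toMonoidHom hs
      rw [hgk k] at h2
      exact h2
    have h2 : a (MulAut.conj (g ^ k) s) = MulAut.conj (g ^ k) s := hX h1
    have h3 : a s = s := hX hs
    rw [MulAut.conj_apply, map_mul, map_mul, map_inv, h3] at h2
    -- `(a g) s (a g)⁻¹ = g s g⁻¹`
    calc s * ((a (g ^ k))⁻¹ * g ^ k) = (a (g ^ k))⁻¹ * (a (g ^ k) * s * (a (g ^ k))⁻¹) * g ^ k := by group
      _ = (a (g ^ k))⁻¹ * (g ^ k * s * (g ^ k)⁻¹) * g ^ k := by rw [h2]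
      _ = (a (g ^ k))⁻¹ * g ^ k * s := by group
  set c : ℕ → X := fun k => ⟨_, hmem k⟩ with hcdef
  have hrec : ∀ k, c (k + 1) = c k * (resAut (MulAut.conj (g ^ k)) X (hgk k)).symm (c 1) := by
    intro k
    apply Subtype.ext
    have h1 : (((resAut (MulAut.conj (g ^ k)) X (hgk k)).symm (c 1) : X) : L) = (g ^ k)⁻¹ * (c 1 : L) * g ^ k := by
      have h2 : resAut (MulAut.conj (g ^ k)) X (hgk k) ((resAut (MulAut.conj (g ^ k)) X (hgk k)).symm (c 1)) = c 1 :=
        MulEquiv.apply_symm_apply _ _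
      have h3 := congrArg (fun x : X => (x : L)) h2
      simp only [resAut_apply, MulAut.conj_apply] at h3
      rw [← h3]
      group
    rw [Subgroup.coe_mul, h1]
    show (a (g ^ (k + 1)))⁻¹ * g ^ (k + 1) = (a (g ^ k))⁻¹ * g ^ k * ((g ^ k)⁻¹ * ((a (g ^ 1))⁻¹ * g ^ 1) * g ^ k)
    rw [pow_one, show g ^ (k + 1) = g * g ^ k from pow_succ' g k, map_mul]
    group
  have hK := Lib.Cores.pPrimeCore_normal (G := X) 2
  have hall : ∀ k, c k * (c 1 ^ k)⁻¹ ∈ pPrimeCore 2 X := by
    intro k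
    induction k with
    | zero =>
      have h1 : c 0 = 1 := Subtype.ext (by show (a (g ^ 0))⁻¹ * g ^ 0 = 1; simp)
      rw [h1, pow_zero, inv_one, mul_one]
      exact one_mem _
    | succ k ih =>
      rw [hrec k]
      set b := (resAut (MulAut.conj (g ^ k)) X (hgk k)).symm (c 1) with hb
      have h1 : b * (c 1)⁻¹ ∈ pPrimeCore 2 X := by
        have h2 := aut_core h4 (resAut (MulAut.conj (g ^ k)) X (hgk k)).symm (c 1)⁻¹
        rw [map_inv, inv_inv] at h2
        exact h2
      have h2 : c k * b * (c 1 ^ (k + 1))⁻¹ = (c k * (b * (c 1)⁻¹) * (c k)⁻¹) * (c k * (c 1 ^ k)⁻¹) := by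
        rw [pow_succ]
        group
      rw [h2]
      exact mul_mem (hK.conj_mem _ h1 _) ih
  have h1 := hall (orderOf g)
  have h2 : c (orderOf g) = 1 := Subtype.ext (by
    show (a (g ^ orderOf g))⁻¹ * g ^ orderOf g = 1
    rw [pow_orderOf_eq_one, map_one, inv_one, mul_one])
  rw [h2, one_mul, inv_mem_iff] at h1
  obtain ⟨m, hm⟩ := hg
  have h3 : c 1 * c 1 ∈ pPrimeCore 2 X := by
    have := mem_core_iff h4 (x := (c 1)⁻¹) (y := c 1) inv_mem_iff
    rwa [inv_inv] at this
  have h4' : c 1 ∈ pPrimeCore 2 X := by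
    rw [hm, pow_succ, pow_mul, pow_two] at h1
    exact (mul_mem_cancel_left (pow_mem h3 m)).1 h1
  have h5 := fix_of_sub W (s := g ^ 1) (hmem 1) h4'
  rwa [pow_one] at h5

/-- **No `w` of odd prime order `q` with `4 ∤ |C_L(w)|` and `|C_L(w)|_q ≠ |L|_q` is a power of `a`.** -/
theorem not_zpowers_of_not_four (W : Wk a) {w : L} (hw : (orderOf w).Prime) (hw2 : orderOf w ≠ 2)
    (hp : MulAut.conj w ∈ zpowers a) (h4 : ¬ 4 ∣ Nat.card (centralizer ({w} : Set L))) {n : ℕ}
    (hn : orderOf w ^ n ∣ Nat.card L) (hn' : ¬ orderOf w ^ n ∣ Nat.card (centralizer ({w} : Set L))) : False := by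
  have hc := W.center
  set q := orderOf w with hq
  have hqf : Fact q.Prime := ⟨hw⟩
  have hFC : fixedSubgroup a ≤ centralizer ({w} : Set L) := fixed_le_centralizer hp
  have haw : a w = w := conj_mem_fixed_of_zpowers hp hc
  have hCF := cent_le_of_not_four W haw h4
  have hCe : centralizer ({w} : Set L) = fixedSubgroup a := le_antisymm hCF hFC
  -- the `q`-part of `a`
  obtain ⟨k, m, hm, hk⟩ := Nat.exists_eq_pow_mul_and_not_dvd (orderOf_pos a).ne' q hw.ne_one
  have hm0 : m ≠ 0 := by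
    rintro rfl
    exact hm (dvd_zero q)
  have hom : orderOf (a ^ m) = q ^ k := by
    rw [orderOf_pow_of_dvd hm0 (by rw [hk]; exact dvd_mul_left _ _), hk, Nat.mul_div_cancel _ (Nat.pos_of_ne_zero hm0)]
  have hqodd : Odd q := hw.odd_of_ne_two hw2
  obtain ⟨v, hv⟩ := W.oi (a ^ m) (by rw [hom]; exact hqodd.pow)
  have hvo : orderOf v = q ^ k := by rw [← hom, hv, orderOf_injective _ (conj_injective hc)]
  -- `w` is a power of `v`
  obtain ⟨j, hj⟩ : ∃ j : ℕ, a ^ j = MulAut.conj w := by
    have h1 : MulAut.conj w ∈ Submonoid.powers a := mem_powers_iff_mem_zpowers.2 hp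
    exact h1
  have hmj : m ∣ j := by
    have h1 : a ^ (j * q) = 1 := by
      rw [pow_mul, hj, ← map_pow, pow_orderOf_eq_one, map_one]
    have h2 : orderOf a ∣ j * q := orderOf_dvd_of_pow_eq_one h1
    have h3 : m ∣ j * q := (Dvd.intro_left _ hk.symm).trans h2
    exact (((Nat.Prime.coprime_iff_not_dvd hw).2 hm).symm).dvd_of_dvd_mul_right h3
  obtain ⟨j', rfl⟩ := hmj
  have hwv : w = v ^ j' := by
    rw [pow_mul, hv] at hj
    exact pow_inj_conj hc hj.symm
  have hvfix : ∀ g : L, a g = g → g * v = v * g := by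
    intro g hg
    have h1 : (a ^ m) g = g := by
      have h2 : a ∈ MulAction.stabilizer (MulAut L) g := hg
      exact pow_mem h2 m
    rw [hv, MulAut.conj_apply, mul_inv_eq_iff_eq_mul] at h1
    exact h1.symm
  have hCv : centralizer ({v} : Set L) = centralizer ({w} : Set L) := by
    apply le_antisymm
    · intro g hg
      rw [mem_centralizer_singleton_iff] at hg ⊢
      rw [hwv]
      exact (show Commute g v from hg).pow_right j'
    · intro g hg
      rw [mem_centralizer_singleton_iff]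
      exact hvfix g (hCF hg)
  -- the Sylow subgroup
  obtain ⟨P, hP⟩ := (isPGroup_zpowers (p := q) (n := k) (x := v) (by rw [← hvo]; exact pow_orderOf_eq_one v)).exists_le_sylow
  have hvP : v ∈ (P : Subgroup L) := hP (mem_zpowers v)
  have hPC : (P : Subgroup L) ≤ centralizer ({v} : Set L) := by
    by_contra hcon
    have hlt : (centralizer ({v} : Set L)).subgroupOf (P : Subgroup L) < ⊤ := by
      rw [lt_top_iff_ne_top]
      intro h
      exact hcon (subgroupOf_eq_top.1 h)
    have hnil : Group.IsNilpotent (P : Subgroup L) := P.2.isNilpotent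
    obtain ⟨g, hgN, hgH⟩ := SetLike.exists_of_lt (Group.normalizerCondition_of_isNilpotent _ hlt)
    have hgC : (g : L) ∉ centralizer ({v} : Set L) := fun h => hgH (mem_subgroupOf.2 h)
    have h1 : (g : L) * v * (g : L)⁻¹ ∈ centralizer ({v} : Set L) := by
      have h2 := (mem_normalizer_iff.1 hgN ⟨v, hvP⟩).1 (mem_subgroupOf.2 (mem_centralizer_singleton_iff.2 rfl))
      exact mem_subgroupOf.1 h2
    have h2 : a ((g : L) * v * (g : L)⁻¹) = (g : L) * v * (g : L)⁻¹ := by
      have h3 := h1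
      rw [hCv, hCe] at h3
      exact h3
    have h3 : Nat.card (centralizer ({(g : L) * v * (g : L)⁻¹} : Set L)) = Nat.card (centralizer ({v} : Set L)) :=
      Nat.card_congr (centEquiv (MulAut.conj (g : L)) v).symm.toEquiv
    have h5 := cent_le_of_not_four W h2 (by rw [h3, hCv]; exact h4)
    have h6 : centralizer ({(g : L) * v * (g : L)⁻¹} : Set L) = centralizer ({v} : Set L) :=
      eq_of_le_of_card_ge (by rw [hCv, hCe]; exact h5) h3.ge
    have h7 : (centralizer ({v} : Set L)).map (MulAut.conj (g : L)).toMonoidHom = centralizer ({v} : Set L) := by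
      apply map_eq_of_forall
      intro s hs
      rw [← h6, mem_centralizer_singleton_iff]
      rw [mem_centralizer_singleton_iff] at hs
      show (g : L) * s * (g : L)⁻¹ * ((g : L) * v * (g : L)⁻¹) = (g : L) * v * (g : L)⁻¹ * ((g : L) * s * (g : L)⁻¹)
      calc (g : L) * s * (g : L)⁻¹ * ((g : L) * v * (g : L)⁻¹) = (g : L) * (s * v) * (g : L)⁻¹ := by group
        _ = (g : L) * (v * s) * (g : L)⁻¹ := by rw [hs]
        _ = _ := by group
    have h8 : Odd (orderOf (g : L)) := by
      obtain ⟨i, hi⟩ := P.2 g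
      refine (hqodd.pow (n := i)).of_dvd_nat (orderOf_dvd_of_pow_eq_one ?_)
      exact congrArg Subtype.val hi
    have h9 : a (g : L) = g := by
      refine fix_of_norm W (X := centralizer ({v} : Set L)) (by rw [hCv]; exact hCF) (by rw [hCv]; exact h4) ?_ h8 h7
      intro s hs
      rw [mem_centralizer_singleton_iff]
      exact ((mem_centralizer_iff.1 hs) v (mem_centralizer_singleton_iff.2 rfl)).symm
    apply hgC
    rw [hCv, hCe]
    exact h9
  apply hn'
  rw [← hCv]
  refine dvd_trans ?_ (card_dvd_of_le hPC)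
  exact P.pow_dvd_card_of_pow_dvd_card hn

/-- the weaker form of `FactA` -/
def FactA3 (L : Type u) [Group L] : Prop :=
  ∃ m : ℕ, (∃ Q : Subgroup L, Odd (Nat.card Q) ∧ m ≤ Nat.card Q) ∧ ∀ w : L, (orderOf w).Prime → orderOf w ≠ 2 →
    pCore 2 ↥(centralizer ({w} : Set L)) = ⊥ ∨ Nat.card (centralizer ({w} : Set L)) < m ∨
      (¬ 4 ∣ Nat.card (centralizer ({w} : Set L)) ∧ ∃ n : ℕ, orderOf w ^ n ∣ Nat.card L ∧
        ¬ orderOf w ^ n ∣ Nat.card (centralizer ({w} : Set L)))

theorem two_of_factA3 (W : Wk a) (h : FactA3 L) : ∃ n : ℕ, a ^ 2 ^ n = 1 := by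
  by_contra hcon
  obtain ⟨w, hw, hw2, hp, -, hle⟩ := W.exists_of_not_two hcon
  obtain ⟨m, ⟨Q, hQ, hmQ⟩, hall⟩ := h
  rcases hall w hw hw2 with h1 | h1 | ⟨h1, n, hn, hn'⟩
  · exact W.not_zpowers hw hw2 hp h1
  · have h2 := W.card_le hQ
    have h3 := Subgroup.card_le_of_le hle
    omega
  · exact not_zpowers_of_not_four W hw hw2 hp h1 hn hn'

/-- **The row at 2 from the two facts.** -/
theorem row_of_facts3 (B : Base L) (hA : FactA3 L) (hB : FactB L) : Row 2 L := by
  rw [row_iff]
  intro a ha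
  by_contra hne
  have W : Wk a := { B with bad := ha, ne := hne }
  obtain ⟨n, hn⟩ := two_of_factA3 W hA
  obtain ⟨Y, hY, hYO, hYN⟩ := hB
  obtain ⟨M, hM⟩ := H652.Four.exists_two_modular
  obtain ⟨y, hy, hay⟩ := W.exists_fix_of_nn hn hY hM (hYN M hM)
  exact W.false_of_fix hn (hYO y hy).1 hay (hYO y hy).2

end wk

/-! ### Transport -/

theorem map_cent_equiv {L : Type*} {L' : Type*} [Group L] [Group L'] (e : L ≃* L') (w : L) :
    (centralizer ({w} : Set L)).map e.toMonoidHom = centralizer ({e w} : Set L') := by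
  ext s
  rw [mem_centralizer_singleton_iff]
  constructor
  · rintro ⟨t, ht, rfl⟩
    have h1 := mem_centralizer_singleton_iff.1 ht
    show e t * e w = e w * e t
    rw [← map_mul, ← map_mul, h1]
  · intro h
    refine ⟨e.symm s, ?_, e.apply_symm_apply s⟩
    change e.symm s ∈ centralizer ({w} : Set L)
    rw [mem_centralizer_singleton_iff]
    apply e.injective
    rw [map_mul, map_mul, e.apply_symm_apply]
    exact h

/-- isomorphisms and centralizers -/
noncomputable def centEquiv' {L : Type*} {L' : Type*} [Group L] [Group L'] (e : L ≃* L') (w : L) :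
    ↥(centralizer ({w} : Set L)) ≃* ↥(centralizer ({e w} : Set L')) :=
  (e.subgroupMap (centralizer ({w} : Set L))).trans (MulEquiv.subgroupCongr (map_cent_equiv e w))

theorem FactA3.congr {L : Type u} {L' : Type v} [Group L] [Group L'] (e : L ≃* L') (h : FactA3 L) : FactA3 L' := by
  obtain ⟨m, ⟨Q, hQ, hm⟩, hall⟩ := h
  have hQc : Nat.card (Q.map e.toMonoidHom) = Nat.card Q := card_map_of_injective e.injective
  refine ⟨m, ⟨Q.map e.toMonoidHom, by rw [hQc]; exact hQ, by rw [hQc]; exact hm⟩, fun w hw hw2 => ?_⟩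
  have h1 : orderOf (e.symm w) = orderOf w := MulEquiv.orderOf_eq e.symm w
  have E : ↥(centralizer ({e.symm w} : Set L)) ≃* ↥(centralizer ({w} : Set L')) :=
    (centEquiv' e (e.symm w)).trans (MulEquiv.subgroupCongr (by rw [e.apply_symm_apply]))
  have h2 : Nat.card ↥(centralizer ({w} : Set L')) = Nat.card ↥(centralizer ({e.symm w} : Set L)) :=
    (Nat.card_congr E.toEquiv).symm
  rcases hall (e.symm w) (by rw [h1]; exact hw) (by rw [h1]; exact hw2) with h3 | h3 | ⟨h3, n, hn, hn'⟩
  · exact Or.inl (pCore_equiv E h3)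
  · exact Or.inr (Or.inl (by rw [h2]; exact h3))
  · refine Or.inr (Or.inr ⟨by rw [h2]; exact h3, n, ?_, ?_⟩)
    · rw [← h1, ← Nat.card_congr e.toEquiv]
      exact hn
    · rw [h2, ← h1]
      exact hn'

end Cfsg.Agent.H451.Weak
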